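import Cfsg.Agent.H28.M12.Eleven

/-!
The principal 11-block of a simple group of order 95040: four rational characters and a pair.
-/

set_option autoImplicit false

namespace Cfsg.Agent.H28.M12

open Subgroup Cfsg.Agent.CharBasic Cfsg.Agent.H36

local instance fact_eleven_block : Fact (Nat.Prime 11) := ⟨by norm_num⟩

universe u

variable {G : Type u} [Group G] [Fintype G]

theorem no_double : ∀ d < 309, d ∣ 95040 → 3 ≤ d → (d % 11 = 2 ∨ d % 11 = 9) →
    ¬ (2 * d - 1) ∣ 95040 ∧ ¬ (2 * d + 1) ∣ 95040 := by decide +kernel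

/-- the data of the block, as signs and characters -/
structure Block (G : Type u) [Group G] where
  c : Fin 4 → Cfsg.IrrCharacter G
  δ : Fin 4 → ℤ
  θ : Cfsg.IrrCharacter G
  θ' : Cfsg.IrrCharacter G
  s : ℤ
  δ_sign : ∀ i, δ i = 1 ∨ δ i = -1
  s_sign : s = 1 ∨ s = -1
  inj : Function.Injective c
  ne_θ : θ ≠ θ'
  c_ne : ∀ i, c i ≠ θ ∧ c i ≠ θ' ∧ (c i : G → ℂ) ≠ fun _ => 1
  θ_ne : (θ : G → ℂ) ≠ (fun _ => 1) ∧ (θ' : G → ℂ) ≠ fun _ => 1
  congr : ∀ i, ∃ m : ℤ, (c i : G → ℂ) 1 = δ i + 11 * m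
  congrθ : ∃ m : ℤ, (θ : G → ℂ) 1 = -5 * s + 11 * m
  val : ∀ x : G, orderOf x = 11 → (∀ i, (c i : G → ℂ) x = δ i) ∧
    (θ : G → ℂ) x + (θ' : G → ℂ) x = s
  regular : ∀ g : G, ¬ 11 ∣ orderOf g → (θ' : G → ℂ) g = (θ : G → ℂ) g ∧
    1 + ∑ i, (δ i : ℂ) * (c i : G → ℂ) g + (s : ℂ) * (θ : G → ℂ) g = 0
  other : ∀ χ : Cfsg.IrrCharacter G, (∀ i, χ ≠ c i) → χ ≠ θ → χ ≠ θ' →
    (χ : G → ℂ) ≠ (fun _ => 1) →
    (∃ m : ℤ, (χ : G → ℂ) 1 = 11 * m) ∧ ∀ x : G, orderOf x = 11 → (χ : G → ℂ) x = 0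

theorem exists_block (hG : Cfsg.IsM12 G) : Nonempty (Block G) := by
  classical
  haveI := hG.1
  have hna := not_comm hG
  obtain ⟨Q⟩ := (inferInstance : Nonempty (Sylow 11 G))
  set P : Subgroup G := (Q : Subgroup G) with hPdef
  have hP : Nat.card P = 11 := card_eleven hG Q
  have hC : centralizer (P : Set G) = P := centralizer_eleven hG Q
  obtain ⟨φ⟩ := SelfCentral.exists_iso hP
  have hU : Nat.card (SelfCentral.U φ) = 5 :=
    (SelfCentral.card_U φ hP hC).1.trans (relIndex_eleven hG Q)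
  have hidx : (SelfCentral.U φ).index = 2 := by
    have h := (SelfCentral.U φ).card_mul_index
    rw [hU, Nat.card_eq_fintype_card (α := (ZMod 11)ˣ), ZMod.card_units] at h
    omega
  obtain ⟨μ, i₀, ε, A, a, hε, hμ, hμ1, htriv, hsq, ha0, ha, hother, hcong, hsumv, hoff, horth⟩ :=
    SelfCentral.exists_data φ hP hC (by omega)
  rw [hU] at hsq hcong
  generalize ht : (SelfCentral.U φ).index = t at μ i₀ hμ hμ1 ha0 ha hother hcong hsumv hoff horth
  rw [hidx] at ht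
  subst ht
  obtain ⟨i₁, hi₁⟩ : ∃ i : Fin 2, i ≠ i₀ := exists_ne i₀
  have huniv : ∀ i : Fin 2, i = i₀ ∨ i = i₁ := by omega
  set θ := μ i₀ with hθ
  set θ' := μ i₁ with hθ'
  have hθne : θ ≠ θ' := fun h => hi₁ (hμ h).symm
  have hA : a θ' = A := ha i₁ hi₁
  let T : Cfsg.IrrCharacter G := SelfCentral.triv G
  have haT : a T = 1 := htriv T rfl
  let O : Finset (Cfsg.IrrCharacter G) :=
    Finset.univ.filter fun ψ => ψ ≠ T ∧ ψ ≠ θ ∧ ψ ≠ θ' ∧ a ψ ≠ 0
  have hOsplit : ∀ w : Cfsg.IrrCharacter G → ℂ, (∀ ψ, a ψ = 0 → w ψ = 0) →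
      ∑ ψ, w ψ = w T + w θ + w θ' + ∑ ψ ∈ O, w ψ := by
    intro w hw
    have hTθ : T ≠ θ := fun h => hμ1 i₀ (congrArg Subtype.val h.symm)
    have hTθ' : T ≠ θ' := fun h => hμ1 i₁ (congrArg Subtype.val h.symm)
    rw [← Finset.sum_subset (Finset.subset_univ ({T, θ, θ'} ∪ O)) fun ψ _ h => hw ψ ?_,
      Finset.sum_union ?_, Finset.sum_insert (by simp [hTθ, hTθ']), Finset.sum_pair hθne, ← add_assoc]
    · rw [Finset.disjoint_left]
      intro ψ h1 h2
      simp only [O, Finset.mem_filter, Finset.mem_insert, Finset.mem_singleton] at h1 h2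
      rcases h1 with h | h | h
      · exact h2.2.1 h
      · exact h2.2.2.1 h
      · exact h2.2.2.2.1 h
    · by_contra h0
      simp only [O, Finset.mem_union, Finset.mem_filter, Finset.mem_insert, Finset.mem_singleton,
        Finset.mem_univ, true_and] at h
      push Not at h
      exact h0 (h.2 h.1.1 h.1.2.1 h.1.2.2)
  set s : ℤ := 2 * A - ε with hs
  have heq : ∀ g : G, ¬ 11 ∣ orderOf g → (θ' : G → ℂ) g = (θ : G → ℂ) g ∧
      1 + ∑ ψ ∈ O, (a ψ : ℂ) * (ψ : G → ℂ) g + (s : ℂ) * (θ : G → ℂ) g = 0 := by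
    intro g hg
    have hoffg : SelfCentral.Off P g := by
      intro x hx
      have h1 : orderOf (⟨_, hx⟩ : P) ∣ 11 := hP ▸ orderOf_dvd_natCard _
      rw [Subgroup.orderOf_mk] at h1
      rcases (Nat.dvd_prime (by norm_num)).1 h1 with h | h
      · exact orderOf_eq_one_iff.1 h
      · refine absurd ?_ hg
        have hconj : orderOf (x⁻¹ * g * x⁻¹⁻¹) = orderOf g := (MulAut.conj x⁻¹).orderOf_eq g
        rw [inv_inv] at hconj
        rw [← hconj, h]
    refine ⟨hoff g hoffg i₁, ?_⟩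
    have h := horth g hoffg
    rw [hOsplit (fun ψ => (a ψ : ℂ) * (ψ : G → ℂ) g) (fun ψ h0 => by simp [h0])] at h
    rw [hA, ha0, haT, show (θ' : G → ℂ) g = (θ : G → ℂ) g from hoff g hoffg i₁] at h
    simp only [T, SelfCentral.triv, Int.cast_one, one_mul] at h
    rw [← h, hs]
    push_cast
    ring
  -- the norm
  have hnorm : ∑ ψ ∈ O, a ψ ^ 2 + ((A - ε) ^ 2 + A ^ 2) = 5 := by
    have h := hOsplit (fun ψ => ((a ψ ^ 2 : ℤ) : ℂ)) (fun ψ h0 => by simp [h0])
    simp only [← Int.cast_sum, hsq, haT, ha0, hA, ← Int.cast_add, Int.cast_inj] at h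
    push_cast at h
    linarith
  have hO1 : ∀ ψ ∈ O, 1 ≤ a ψ ^ 2 := fun ψ hψ => by
    have h0 : a ψ ≠ 0 := (Finset.mem_filter.1 hψ).2.2.2.2
    nlinarith [Int.one_le_abs h0, sq_abs (a ψ)]
  have hdeg : ∀ ψ : Cfsg.IrrCharacter G, ψ ≠ T → ∃ d : ℕ, 3 ≤ d ∧ d < 309 ∧ d ∣ 95040 ∧
      (ψ : G → ℂ) 1 = d := by
    intro ψ hψ
    have hne : (ψ : G → ℂ) ≠ fun _ => 1 := fun h => hψ (Subtype.ext h)
    obtain ⟨d, hd2, hd, hdN⟩ := SelfCentral.exists_degree_two_le hna hψ
    have hna' : ∃ x y : G, x * y ≠ y * x := by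
      by_contra hcon
      push Not at hcon
      exact hna ⟨⟨hcon⟩⟩
    have hd3 : d ≠ 2 := by
      intro e
      apply H81.SimpleDegree.charDegree_ne_two hna' (by rw [hG.2]; norm_num) hne
      have := (H83.charDegree_eq ψ.2).1
      rw [hd, e] at this
      exact_mod_cast this.symm
    rw [hG.2] at hdN
    refine ⟨d, by omega, ?_, hdN, hd⟩
    have h1 := sum_sq_degree (G := G)
    have h2 : (d : ℂ) ^ 2 + ∑ χ ∈ Finset.univ.erase ψ, ((Cfsg.charDegree (χ : G → ℂ) : ℂ)) ^ 2 =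
        Nat.card G := by
      rw [← h1, ← Finset.add_sum_erase _ _ (Finset.mem_univ ψ), hd]
      congr 1
      exact Finset.sum_congr rfl fun χ _ => by rw [(H83.charDegree_eq χ.2).1]
    rw [hG.2] at h2
    have h3 : d ^ 2 + ∑ χ ∈ Finset.univ.erase ψ, Cfsg.charDegree (χ : G → ℂ) ^ 2 = 95040 := by
      exact_mod_cast h2
    have h4 : d ^ 2 ≤ 95040 := le_trans (Nat.le_add_right _ _) h3.le
    by_contra hlt
    have h5 : 309 ^ 2 ≤ d ^ 2 := Nat.pow_le_pow_left (by omega) 2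
    omega
  have hθT : θ ≠ T := fun h => hμ1 i₀ (congrArg Subtype.val h)
  obtain ⟨f, hf3, hflt, hfN, hf⟩ := hdeg θ hθT
  have h11 : ¬ 11 ∣ orderOf (1 : G) := by simp
  have hone := (heq 1 h11).2
  rw [hf] at hone
  have hOne : O ≠ ∅ := by
    intro hOe
    rw [hOe, Finset.sum_empty, add_zero] at hone
    have h1 : (1 : ℤ) + s * f = 0 := by exact_mod_cast hone
    have h2 : (f : ℤ) ∣ 1 := ⟨-s, by linarith⟩
    have h3 := Int.le_of_dvd (by norm_num) h2
    omega
  have hA2 : A = 0 ∨ A = ε := by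
    have h0 : 0 ≤ ∑ ψ ∈ O, a ψ ^ 2 := Finset.sum_nonneg fun ψ _ => sq_nonneg _
    have hle : (A - ε) ^ 2 + A ^ 2 ≤ 5 := by linarith
    have hb : A ≤ 2 ∧ -2 ≤ A := by
      rcases hε with e | e <;> rw [e] at hle <;> constructor <;> nlinarith
    rcases hε with e | e
    all_goals
      obtain ⟨hb1, hb2⟩ := hb
      rw [e] at hle ⊢
      interval_cases A <;> first | (left; rfl) | (right; rfl) | skip
      all_goals norm_num at hle
      all_goals
        exfalso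
        rw [e] at hnorm
        norm_num at hnorm
        have hOe : O = ∅ := Finset.eq_empty_of_forall_notMem fun ψ hψ => by
          have := Finset.single_le_sum (fun ψ _ => sq_nonneg (a ψ)) hψ
          nlinarith [hO1 ψ hψ]
        exact hOne hOe
  have hs2 : s = 1 ∨ s = -1 := by rcases hA2 with e | e <;> rcases hε with e' | e' <;> omega
  have hO4 : ∑ ψ ∈ O, a ψ ^ 2 = 4 := by
    have : (A - ε) ^ 2 + A ^ 2 = 1 := by
      rcases hA2 with e | e <;> rcases hε with e' | e' <;> rw [e, e'] <;> norm_num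
    linarith
  -- signs are units
  have hunit : ∀ ψ ∈ O, a ψ = 1 ∨ a ψ = -1 := by
    intro ψ hψ
    have hle := Finset.single_le_sum (fun ψ _ => sq_nonneg (a ψ)) hψ
    rw [hO4] at hle
    have h0 : a ψ ≠ 0 := (Finset.mem_filter.1 hψ).2.2.2.2
    have hb : a ψ ≤ 2 ∧ -2 ≤ a ψ := by constructor <;> nlinarith
    by_contra hbad
    have h4 : a ψ ^ 2 = 4 := by
      have : a ψ = 2 ∨ a ψ = -2 := by omega
      rcases this with e | e <;> rw [e] <;> norm_num
    have hOe : O = {ψ} := by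
      refine Finset.eq_singleton_iff_unique_mem.2 ⟨hψ, fun χ hχ => ?_⟩
      by_contra hne
      have := Finset.add_sum_erase O (fun ψ => a ψ ^ 2) hψ
      rw [hO4] at this
      have h5 := Finset.single_le_sum (fun ψ _ => sq_nonneg (a ψ)) (Finset.mem_erase.2 ⟨hne, hχ⟩)
      nlinarith [hO1 χ hχ]
    obtain ⟨d, hd3, hdlt, hdN, hd⟩ := hdeg ψ (Finset.mem_filter.1 hψ).2.1
    obtain ⟨m, hm⟩ := (hother ψ (by
      rintro ⟨i, rfl⟩
      rcases huniv i with rfl | rfl
      · exact (Finset.mem_filter.1 hψ).2.2.1 rfl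
      · exact (Finset.mem_filter.1 hψ).2.2.2.1 rfl)).2
    rw [hd] at hm
    have hm' : (d : ℤ) = a ψ + 11 * m := by exact_mod_cast hm
    rw [hOe, Finset.sum_singleton, hd] at hone
    have h1 : (1 : ℤ) + a ψ * d + s * f = 0 := by exact_mod_cast hone
    have h22 : a ψ = 2 ∨ a ψ = -2 := by omega
    have hmod : d % 11 = 2 ∨ d % 11 = 9 := by rcases h22 with e | e <;> omega
    obtain ⟨hk1, hk2⟩ := no_double d hdlt hdN hd3 hmod
    have hf' : f = 2 * d - 1 ∨ f = 2 * d + 1 := by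
      rcases h22 with e | e <;> rcases hs2 with e' | e' <;> rw [e, e'] at h1 <;> omega
    rcases hf' with e | e
    · exact hk1 (e ▸ hfN)
    · exact hk2 (e ▸ hfN)
  have hOc : O.card = 4 := by
    have : ∑ ψ ∈ O, a ψ ^ 2 = (O.card : ℤ) := by
      rw [Finset.card_eq_sum_ones, Nat.cast_sum]
      refine Finset.sum_congr rfl fun ψ hψ => ?_
      rcases hunit ψ hψ with e | e <;> rw [e] <;> norm_num
    omega
  let eO := (O.equivFinOfCardEq hOc).symm
  have hnr : ∀ ψ, ψ ≠ θ → ψ ≠ θ' → ψ ∉ Set.range μ := by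
    rintro ψ h1 h2 ⟨i, rfl⟩
    rcases huniv i with rfl | rfl
    · exact h1 rfl
    · exact h2 rfl
  have hval : ∀ ψ, ψ ≠ θ → ψ ≠ θ' → ∀ x : G, orderOf x = 11 → (ψ : G → ℂ) x = a ψ := by
    intro ψ h1 h2 x hx
    obtain ⟨Q', hQ'⟩ := (IsPGroup.of_card (p := 11) (n := 1) (G := zpowers x)
      (by rw [Nat.card_zpowers, hx, pow_one])).exists_le_sylow
    obtain ⟨g, hg⟩ := MulAction.exists_smul_eq G Q' Q
    have hmem : g * x * g⁻¹ ∈ P := by
      rw [hPdef, ← hg, Sylow.coe_subgroup_smul, Subgroup.mem_pointwise_smul_iff_inv_smul_mem]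
      simpa [MulAut.smul_def, mul_assoc] using hQ' (mem_zpowers x)
    rw [← IsIrr.isClassFunction ψ.2 x g]
    refine (hother ψ (hnr ψ h1 h2)).1 ⟨_, hmem⟩ fun h => ?_
    have h' : g * x * g⁻¹ = 1 := congrArg Subtype.val h
    rw [conj_eq_one_iff] at h'
    rw [h', orderOf_one] at hx
    omega
  have hpair : ∀ x : G, orderOf x = 11 → (θ : G → ℂ) x + (θ' : G → ℂ) x = s := by
    intro x hx
    obtain ⟨Q', hQ'⟩ := (IsPGroup.of_card (p := 11) (n := 1) (G := zpowers x)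
      (by rw [Nat.card_zpowers, hx, pow_one])).exists_le_sylow
    obtain ⟨g, hg⟩ := MulAction.exists_smul_eq G Q' Q
    have hmem : g * x * g⁻¹ ∈ P := by
      rw [hPdef, ← hg, Sylow.coe_subgroup_smul, Subgroup.mem_pointwise_smul_iff_inv_smul_mem]
      simpa [MulAut.smul_def, mul_assoc] using hQ' (mem_zpowers x)
    rw [← IsIrr.isClassFunction θ.2 x g, ← IsIrr.isClassFunction θ'.2 x g]
    have h := hsumv ⟨_, hmem⟩ fun h => by
      have h' : g * x * g⁻¹ = 1 := congrArg Subtype.val h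
      rw [conj_eq_one_iff] at h'
      rw [h', orderOf_one] at hx
      omega
    have hu : (Finset.univ : Finset (Fin 2)) = {i₀, i₁} := by
      ext i; simpa using huniv i
    rw [hu, Finset.sum_pair hi₁.symm] at h
    rw [h, hs]
    push_cast
    ring
  refine ⟨
    { c := fun i => (eO i).1
      δ := fun i => a (eO i).1
      θ := θ
      θ' := θ'
      s := s
      δ_sign := fun i => hunit _ (eO i).2
      s_sign := hs2
      inj := fun i j h => eO.injective (Subtype.ext h)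
      ne_θ := hθne
      c_ne := fun i => ?_
      θ_ne := ⟨hμ1 i₀, hμ1 i₁⟩
      congr := fun i => ?_
      congrθ := ?_
      val := fun x hx => ⟨fun i => ?_, hpair x hx⟩
      regular := fun g hg => ⟨(heq g hg).1, ?_⟩
      other := fun χ h1 h2 h3 h4 => ?_ }⟩
  · have h := (Finset.mem_filter.1 (eO i).2).2
    exact ⟨h.2.1, h.2.2.1, fun e => h.1 (Subtype.ext e)⟩
  · have h := (Finset.mem_filter.1 (eO i).2).2
    obtain ⟨m, hm⟩ := (hother _ (hnr _ h.2.1 h.2.2.1)).2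
    exact ⟨m, by rw [hm]; norm_num⟩
  · obtain ⟨m, hm⟩ := hcong i₀
    -- A + 5 ε is -5 s modulo 11
    rcases hA2 with e | e
    · refine ⟨m, ?_⟩
      rw [hm, hs, e]; push_cast; ring
    · refine ⟨m + ε, ?_⟩
      rw [hm, hs, e]; push_cast; ring
  · have h := (Finset.mem_filter.1 (eO i).2).2
    exact hval _ h.2.1 h.2.2.1 x hx
  · have h := (heq g hg).2
    rw [← Finset.sum_coe_sort O, ← eO.sum_comp] at h
    exact h
  · have ha : a χ = 0 := by
      by_contra h0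
      have hmem : χ ∈ O := Finset.mem_filter.2
        ⟨Finset.mem_univ _, fun e => h4 (congrArg Subtype.val e), h2, h3, h0⟩
      obtain ⟨i, hi⟩ := eO.surjective ⟨χ, hmem⟩
      exact h1 i (by rw [hi])
    refine ⟨?_, fun x hx => by rw [hval χ h2 h3 x hx, ha, Int.cast_zero]⟩
    obtain ⟨m, hm⟩ := (hother χ (hnr χ h2 h3)).2
    refine ⟨m, ?_⟩
    rw [hm, ha]; norm_num

end Cfsg.Agent.H28.M12
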