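import Cfsg.Prelude.Def_Sporadic
import Cfsg.Agent.H24.SubnormalConjugate
import Cfsg.Agent.H69.M11.Tools
import Cfsg.Agent.Linear.Order
import Cfsg.Agent.S0679

/-!
Simple groups of order 95040 with a subgroup of index 12: the action on the 12 cosets is sharply
five-transitive.
-/

set_option autoImplicit false

namespace Cfsg.Agent.H28.M12

open MulAction Equiv

local instance fact_eleven : Fact (Nat.Prime 11) := ⟨by norm_num⟩

variable {G X : Type*} [Group G] [Finite G] [MulAction G X] [Fintype X] [DecidableEq X]

theorem not_comm (hG : Cfsg.IsM12 G) : ¬ IsMulCommutative G := by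
  intro hc
  haveI := hG.1
  obtain ⟨g, hg⟩ := exists_prime_orderOf_dvd_card' (G := G) 11 (by rw [hG.2]; norm_num)
  have hN : (Subgroup.zpowers g).Normal :=
    ⟨fun n hn h => by rwa [hc.is_comm.comm h n, mul_inv_cancel_right]⟩
  rcases hN.eq_bot_or_eq_top with h | h
  · rw [Subgroup.zpowers_eq_bot] at h; simp [h] at hg
  · have := Nat.card_zpowers g
    rw [h, Subgroup.card_top, hG.2, hg] at this
    norm_num at this

/-- a point stabiliser is transitive on the other eleven points -/
theorem pretransitive_stab [FaithfulSMul G X] [IsPretransitive G X] (hG : Cfsg.IsM12 G)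
    (hX : Fintype.card X = 12) (a : X) :
    IsPretransitive (stabilizer G a) (SubMulAction.ofStabilizer G a) := by
  have hcard : Nat.card (stabilizer G a) = 7920 := by
    have h := (stabilizer G a).card_mul_index
    rw [index_stabilizer_of_transitive, Nat.card_eq_fintype_card (α := X), hX, hG.2] at h
    omega
  obtain ⟨g, hg⟩ := exists_prime_orderOf_dvd_card' (G := stabilizer G a) 11
    (by rw [hcard]; norm_num)
  set σ : Equiv.Perm X := toPerm (g : G) with hσ
  have ho : orderOf σ = 11 := by
    rw [hσ, ← hg, ← Subgroup.orderOf_coe]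
    exact orderOf_injective (toPermHom G X) toPerm_injective _
  have hcyc : σ.IsCycle := Equiv.Perm.isCycle_of_prime_order' (by rw [ho]; norm_num)
    (by rw [ho, hX]; norm_num)
  have hfix : σ a = a := g.2
  have hsupp : σ.support = Finset.univ.erase a := by
    refine Finset.eq_of_subset_of_card_le (fun x hx => ?_) ?_
    · rw [Finset.mem_erase]
      exact ⟨fun e => Equiv.Perm.mem_support.mp (e ▸ hx) hfix, Finset.mem_univ _⟩
    · rw [Finset.card_erase_of_mem (Finset.mem_univ _), Finset.card_univ, hX, ← hcyc.orderOf, ho]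
  refine ⟨fun x y => ?_⟩
  have hm : ∀ z : SubMulAction.ofStabilizer G a, σ z.1 ≠ z.1 := fun z =>
    Equiv.Perm.mem_support.mp (hsupp ▸ Finset.mem_erase.mpr ⟨z.2, Finset.mem_univ _⟩)
  obtain ⟨i, hi⟩ := hcyc.sameCycle (hm x) (hm y)
  refine ⟨g ^ i, Subtype.ext ?_⟩
  show ((g ^ i : stabilizer G a) : G) • x.1 = y.1
  rw [← hi, Subgroup.coe_zpow]
  exact (DFunLike.congr_fun (map_zpow (toPermHom G X) (g : G) i) x.1)

/-- a soluble transitive group on eleven points has order at most 110 -/
theorem card_le_of_solvable {α : Type*} [Fintype α] [DecidableEq α] (hα : Fintype.card α = 11)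
    (H : Subgroup (Equiv.Perm α)) [IsPretransitive H α] (hH : Group.IsSolvable H) :
    Nat.card H ≤ 110 := by
  have hne : Nonempty α := Fintype.card_pos_iff.mp (by omega)
  obtain ⟨x₀⟩ := hne
  have hdvd : 11 ∣ Nat.card H := by
    have h := Subgroup.index_dvd_card (stabilizer H x₀)
    rwa [index_stabilizer_of_transitive, Nat.card_eq_fintype_card (α := α), hα] at h
  haveI : Nontrivial H := Finite.one_lt_card_iff_nontrivial.mp (by
    have := Nat.card_pos (α := H)
    obtain ⟨k, hk⟩ := hdvd
    omega)
  obtain ⟨N, hNn, hNne, hNab⟩ := H24.SubConj.exists_abelian_normal hH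
  haveI := hNn
  haveI : IsPretransitive N α := by
    haveI : IsPreprimitive H α := IsPreprimitive.of_prime_card (by
      rw [Nat.card_eq_fintype_card, hα]; norm_num)
    refine IsQuasiPreprimitive.isPretransitive_of_normal (G := H) ?_
    intro hfix
    apply hNne
    rw [Subgroup.eq_bot_iff_forall]
    intro n hn
    exact Subtype.ext (Equiv.Perm.ext fun x =>
      (Set.eq_univ_iff_forall.mp hfix x) ⟨n, hn⟩)
  have h11 : 11 ∣ Nat.card N := by
    have h := Subgroup.index_dvd_card (stabilizer N x₀)
    rwa [index_stabilizer_of_transitive, Nat.card_eq_fintype_card (α := α), hα] at h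
  have hC : Nat.card (Subgroup.centralizer (N : Set H)) ≤ 11 := by
    have hinj : Function.Injective
        fun c : Subgroup.centralizer (N : Set H) => (c : H) • x₀ := by
      intro c c' e
      refine Subtype.ext (Subtype.ext (Equiv.Perm.ext fun x => ?_))
      obtain ⟨n, rfl⟩ := exists_smul_eq N x₀ x
      have e1 := Subgroup.mem_centralizer_iff.mp c.2 n n.2
      have e2 := Subgroup.mem_centralizer_iff.mp c'.2 n n.2
      show (c : H) • (n : H) • x₀ = (c' : H) • (n : H) • x₀
      rw [smul_smul, smul_smul, ← e1, ← e2, ← smul_smul, ← smul_smul]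
      exact congrArg ((n : H) • ·) e
    have := Nat.card_le_card_of_injective _ hinj
    rwa [Nat.card_eq_fintype_card (α := α), hα] at this
  have hle : N ≤ Subgroup.centralizer (N : Set H) := fun x hx =>
    Subgroup.mem_centralizer_iff.mpr fun y hy => hNab y hy x hx
  have hN : Nat.card N = 11 := by
    have h1 := Subgroup.card_le_of_le hle
    have h2 : 0 < Nat.card N := Nat.card_pos
    obtain ⟨k, hk⟩ := h11
    omega
  have hdiv := H69.M11.card_normalizer_dvd N hN
  rw [Subgroup.normalizer_eq_top, Subgroup.card_top] at hdiv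
  have := Nat.le_of_dvd (Nat.mul_pos Nat.card_pos (by norm_num)) hdiv
  omega

/-- the action is five-transitive -/
theorem five_transitive [FaithfulSMul G X] [IsPretransitive G X] (hG : Cfsg.IsM12 G)
    (hX : Fintype.card X = 12) : IsMultiplyPretransitive G X 5 := by
  obtain ⟨a⟩ : Nonempty X := Fintype.card_pos_iff.mp (by omega)
  haveI := pretransitive_stab hG hX a
  rw [SubMulAction.ofStabilizer.isMultiplyPretransitive (a := a)]
  classical
  let Y := SubMulAction.ofStabilizer G a
  let f : stabilizer G a →* Equiv.Perm Y := toPermHom (stabilizer G a) Y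
  have hf : Function.Injective f := by
    rw [← MonoidHom.ker_eq_bot_iff, Subgroup.eq_bot_iff_forall]
    intro g hg
    refine Subtype.ext (FaithfulSMul.eq_of_smul_eq_smul (α := X) fun x => ?_)
    rw [OneMemClass.coe_one, one_smul]
    by_cases hx : x = a
    · rw [hx]; exact g.2
    · exact congrArg Subtype.val (DFunLike.congr_fun (MonoidHom.mem_ker.mp hg) (⟨x, hx⟩ : Y))
  have hY : Fintype.card Y = 11 := by
    rw [← Nat.card_eq_fintype_card, Nat.card_congr (show Y ≃ {x : X // x ≠ a} from Equiv.refl _),
      Nat.card_eq_fintype_card, Fintype.card_subtype_compl, hX, Fintype.card_subtype_eq]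
  let H := f.range
  haveI : IsPretransitive H Y := ⟨fun x y => by
    obtain ⟨g, hg⟩ := exists_smul_eq (stabilizer G a) x y
    exact ⟨⟨f g, g, rfl⟩, hg⟩⟩
  have hH : Nat.card H = 7920 := by
    rw [← Nat.card_congr (MonoidHom.ofInjective hf).toEquiv]
    have h := (stabilizer G a).card_mul_index
    rw [index_stabilizer_of_transitive, Nat.card_eq_fintype_card (α := X), hX, hG.2] at h
    omega
  have hns : ¬ Group.IsSolvable H := fun h => by
    have := card_le_of_solvable hY H h
    omega
  have hA : ¬ alternatingGroup Y ≤ H := fun h => by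
    haveI : Nontrivial Y := Fintype.one_lt_card_iff_nontrivial.mp (by omega)
    have h1 := Subgroup.card_le_of_le h
    rw [Nat.card_eq_fintype_card (α := alternatingGroup Y), card_alternatingGroup, hY, hH] at h1
    norm_num [Nat.factorial] at h1
  rcases S0679.result hY H hns hA with ⟨h4, -⟩ | ⟨⟨e⟩⟩
  · refine ⟨fun x y => ?_⟩
    obtain ⟨⟨h, g, rfl⟩, hh⟩ := h4.exists_smul_eq x y
    exact ⟨g, hh⟩
  · exfalso
    have h1 := Linear.card_PSL_two_mul (F := ZMod 11)
    rw [← Nat.card_congr e.toEquiv, hH, ZMod.card] at h1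
    norm_num at h1

/-- only the identity fixes five points -/
theorem eq_one_of_fix [FaithfulSMul G X] [IsPretransitive G X] (hG : Cfsg.IsM12 G)
    (hX : Fintype.card X = 12) {g : G} (F : Finset X) (hF : F.card = 5)
    (h : ∀ x ∈ F, g • x = x) : g = 1 := by
  haveI := five_transitive hG hX
  let x : Fin 5 ↪ X :=
    (F.equivFinOfCardEq hF).symm.toEmbedding.trans (Function.Embedding.subtype _)
  have hb : stabilizer G x = ⊥ := by
    rw [← Subgroup.card_eq_one]
    have h1 := (stabilizer G x).card_mul_index
    rw [index_stabilizer_of_transitive, Nat.card_eq_fintype_card (α := Fin 5 ↪ X),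
      Fintype.card_embedding_eq, hX, Fintype.card_fin, hG.2,
      show Nat.descFactorial 12 5 = 95040 by decide] at h1
    omega
  have hg : g ∈ stabilizer G x := Function.Embedding.ext fun i => h _ ((F.equivFinOfCardEq hF).symm i).2
  rwa [hb, Subgroup.mem_bot] at hg

end Cfsg.Agent.H28.M12
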