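import Cfsg.Prelude.Def_Sporadic_a
import Cfsg.Agent.H28.M12.Perm

/-!
The Steiner system of a sharply five-transitive simple group of order 95040 on twelve points: to
five points add the point fixed by their stabiliser.
-/

set_option autoImplicit false

namespace Cfsg.Agent.H28.M12

open MulAction Finset
open scoped Pointwise

variable {G X : Type*} [Group G] [Finite G] [MulAction G X] [Fintype X] [DecidableEq X]

/-- `t` induces the transposition `(a b)` on `F` -/
def Swaps (F : Finset X) (a b : X) (t : G) : Prop :=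
  t • a = b ∧ t • b = a ∧ ∀ c ∈ F, c ≠ a → c ≠ b → t • c = c

theorem Swaps.congr {F F' : Finset X} {a b : X} {t : G} (h : Swaps F a b t)
    (hF : ∀ c ∈ F', c ≠ a → c ≠ b → c ∈ F ∨ t • c = c) : Swaps F' a b t :=
  ⟨h.1, h.2.1, fun c hc ha hb => (hF c hc ha hb).elim (fun q => h.2.2 c q ha hb) id⟩

theorem Swaps.maps {F : Finset X} {a b : X} {t : G} (h : Swaps F a b t) (ha : a ∈ F) (hb : b ∈ F)
    {c : X} (hc : c ∈ F) : t • c ∈ F := by
  by_cases h1 : c = a
  · rw [h1, h.1]; exact hb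
  by_cases h2 : c = b
  · rw [h2, h.2.1]; exact ha
  rw [h.2.2 c hc h1 h2]; exact hc

variable [FaithfulSMul G X] [IsPretransitive G X] (hG : Cfsg.IsM12 G) (hX : Fintype.card X = 12)

include hG hX

theorem exists_swaps {F : Finset X} (hF : F.card = 5) {a b : X} (ha : a ∈ F) (hb : b ∈ F) :
    ∃ t : G, Swaps F a b t := by
  haveI := five_transitive hG hX
  let e : Fin 5 ↪ X :=
    (F.equivFinOfCardEq hF).symm.toEmbedding.trans (Function.Embedding.subtype _)
  obtain ⟨t, ht⟩ := exists_smul_eq G e (e.trans (Equiv.swap a b).toEmbedding)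
  have key : ∀ c ∈ F, t • c = Equiv.swap a b c := fun c hc => by
    have h1 := DFunLike.congr_fun ht ((F.equivFinOfCardEq hF) ⟨c, hc⟩)
    simpa [e] using h1
  exact ⟨t, by rw [key a ha, Equiv.swap_apply_left], by rw [key b hb, Equiv.swap_apply_right],
    fun c hc h1 h2 => by rw [key c hc, Equiv.swap_apply_of_ne_of_ne h1 h2]⟩

theorem eq_of_agree {F : Finset X} (hF : F.card = 5) {s t : G} (h : ∀ c ∈ F, s • c = t • c) :
    s = t := by
  have := eq_one_of_fix hG hX (g := t⁻¹ * s) F hF fun c hc => by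
    rw [mul_smul, h c hc, inv_smul_smul]
  exact (inv_mul_eq_one.mp this).symm

/-- a transposition of five points fixes exactly one point outside them -/
theorem Swaps.exists_fix {F : Finset X} (hF : F.card = 5) {a b : X} (ha : a ∈ F) (hb : b ∈ F)
    (hab : a ≠ b) {t : G} (ht : Swaps F a b t) :
    ∃ x, x ∉ F ∧ t • x = x ∧ ∀ y, y ∉ F → t • y = y → y = x := by
  haveI := hG.1
  set σ : Equiv.Perm X := toPerm t with hσ
  have h2 : σ ^ 2 = 1 := by
    have : t * t = 1 := eq_of_agree hG hX hF fun c hc => by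
      rw [mul_smul, one_smul]
      by_cases h1 : c = a
      · rw [h1, ht.1, ht.2.1]
      by_cases h2 : c = b
      · rw [h2, ht.2.1, ht.1]
      rw [ht.2.2 c hc h1 h2, ht.2.2 c hc h1 h2]
    rw [pow_two, hσ]
    show toPermHom G X t * toPermHom G X t = 1
    rw [← map_mul, this, map_one]
  have h4 := H69.M11.four_dvd_support σ h2 (H69.M11.sign_toPerm (not_comm hG) t)
  let Fx := (univ : Finset X).filter fun x => t • x = x
  have hsupp : σ.support = Fxᶜ := by
    ext x
    simp [Fx, σ]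
  have hsub : (F.erase a).erase b ⊆ Fx := fun c hc => by
    simp only [mem_erase] at hc
    simp only [Fx, mem_filter, mem_univ, true_and]
    exact ht.2.2 c hc.2.2 hc.2.1 hc.1
  have h3 : ((F.erase a).erase b).card = 3 := by
    rw [card_erase_of_mem (mem_erase.mpr ⟨hab.symm, hb⟩), card_erase_of_mem ha, hF]
  have hge : 3 ≤ Fx.card := h3 ▸ card_le_card hsub
  have hlt : Fx.card < 5 := by
    by_contra hle
    obtain ⟨T, hT, hT5⟩ := exists_subset_card_eq (not_lt.mp hle)
    have := eq_one_of_fix hG hX (g := t) T hT5 fun c hc => (mem_filter.mp (hT hc)).2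
    exact hab (by rw [← ht.1, this, one_smul])
  rw [hsupp, card_compl, hX] at h4
  have hout : Fx \ F = Fx \ (F.erase a).erase b := by
    ext c
    simp only [Fx, mem_sdiff, mem_filter, mem_univ, true_and, mem_erase]
    constructor
    · exact fun h => ⟨h.1, fun q => h.2 q.2.2⟩
    · rintro ⟨h, hn⟩
      refine ⟨h, fun hc => hn ⟨?_, ?_, hc⟩⟩
      · rintro rfl; exact hab (ht.2.1 ▸ h)
      · rintro rfl; exact hab (h.symm.trans ht.1)
  have h1 : (Fx \ F).card = 1 := by
    rw [hout, card_sdiff_of_subset hsub, h3]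
    omega
  obtain ⟨x, hx⟩ := card_eq_one.mp h1
  refine ⟨x, ?_⟩
  have hmem : x ∈ Fx \ F := by rw [hx]; exact mem_singleton_self x
  simp only [Fx, mem_sdiff, mem_filter, mem_univ, true_and] at hmem
  refine ⟨hmem.2, hmem.1, fun y hy hty => ?_⟩
  have hy' : y ∈ Fx \ F := by simp [Fx, hy, hty]
  rwa [hx, mem_singleton] at hy'

/-- disjoint transpositions commute, so have the same outside fixed point -/
theorem fix_eq_of_disjoint {F : Finset X} (hF : F.card = 5) {a b c d : X} (ha : a ∈ F) (hb : b ∈ F)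
    (hc : c ∈ F) (hd : d ∈ F) (hab : a ≠ b) (hac : a ≠ c) (had : a ≠ d)
    (hbc : b ≠ c) (hbd : b ≠ d) {s t : G} (hs : Swaps F a b s) (ht : Swaps F c d t) {x : X}
    (hx : x ∉ F) (hsx : s • x = x) : t • x = x := by
  obtain ⟨y, -, -, huniq⟩ := hs.exists_fix hG hX hF ha hb hab
  have hst : s * t = t * s := eq_of_agree hG hX hF fun e he => by
    rw [mul_smul, mul_smul]
    by_cases h1 : e = a
    · rw [h1, ht.2.2 a ha hac had, hs.1, ht.2.2 b hb hbc hbd]
    by_cases h2 : e = b
    · rw [h2, ht.2.2 b hb hbc hbd, hs.2.1, ht.2.2 a ha hac had]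
    rw [hs.2.2 e he h1 h2]
    refine hs.2.2 _ (ht.maps hc hd he) ?_ ?_
    · intro q
      exact h1 (MulAction.injective t (q.trans (ht.2.2 a ha hac had).symm))
    · intro q
      exact h2 (MulAction.injective t (q.trans (ht.2.2 b hb hbc hbd).symm))
  have h1 : t • x ∉ F := fun q => by
    apply hx
    have := ht.maps hc hd q
    have htt : t * t = 1 := eq_of_agree hG hX hF fun e he => by
      rw [mul_smul, one_smul]
      by_cases h1 : e = c
      · rw [h1, ht.1, ht.2.1]
      by_cases h2 : e = d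
      · rw [h2, ht.2.1, ht.1]
      rw [ht.2.2 e he h1 h2, ht.2.2 e he h1 h2]
    rwa [← mul_smul, htt, one_smul] at this
  rw [huniq _ h1 (by rw [← mul_smul, hst, mul_smul, hsx]), huniq x hx hsx]

/-- the point attached to five points -/
theorem exists_point {F : Finset X} (hF : F.card = 5) :
    ∃ x, x ∉ F ∧ ∀ a ∈ F, ∀ b ∈ F, a ≠ b → ∀ t : G, Swaps F a b t →
      t • x = x ∧ ∀ y, y ∉ F → t • y = y → y = x := by
  obtain ⟨a₀, ha₀, b₀, hb₀, hab₀⟩ := one_lt_card.mp (by omega : 1 < F.card)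
  obtain ⟨t₀, ht₀⟩ := exists_swaps (G := G) hG hX hF ha₀ hb₀
  obtain ⟨x, hx, htx, -⟩ := ht₀.exists_fix hG hX hF ha₀ hb₀ hab₀
  refine ⟨x, hx, fun a ha b hb hab t ht => ?_⟩
  suffices hfix : t • x = x by
    obtain ⟨y, -, -, huniq⟩ := ht.exists_fix hG hX hF ha hb hab
    exact ⟨hfix, fun z hz htz => (huniq z hz htz).trans (huniq x hx hfix).symm⟩
  by_cases hdis : a₀ ≠ a ∧ a₀ ≠ b ∧ b₀ ≠ a ∧ b₀ ≠ b
  · exact fix_eq_of_disjoint hG hX hF ha₀ hb₀ ha hb hab₀ hdis.1 hdis.2.1 hdis.2.2.1
      hdis.2.2.2 ht₀ ht hx htx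
  · have hU : ({a₀, b₀, a, b} : Finset X).card ≤ 3 := by
      simp only [not_and_or, ne_eq, not_not] at hdis
      rcases hdis with rfl | rfl | rfl | rfl <;>
        simp only [Finset.insert_eq_of_mem, mem_insert, mem_singleton, true_or, or_true] <;>
        exact card_le_three
    obtain ⟨c, hc, d, hd, hcd⟩ := one_lt_card.mp
      (show 1 < (F \ {a₀, b₀, a, b}).card from by
        have := le_card_sdiff ({a₀, b₀, a, b} : Finset X) F
        omega)
    simp only [mem_sdiff, mem_insert, mem_singleton, not_or] at hc hd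
    obtain ⟨s, hs⟩ := exists_swaps (G := G) hG hX hF hc.1 hd.1
    have hsx := fix_eq_of_disjoint hG hX hF ha₀ hb₀ hc.1 hd.1 hab₀ (Ne.symm hc.2.1)
      (Ne.symm hd.2.1) (Ne.symm hc.2.2.1) (Ne.symm hd.2.2.1) ht₀ hs hx htx
    exact fix_eq_of_disjoint hG hX hF hc.1 hd.1 ha hb hcd hc.2.2.2.1 hc.2.2.2.2 hd.2.2.2.1
      hd.2.2.2.2 hs ht hx hsx

/-- the group preserves a Steiner system -/
theorem exists_steiner : ∃ B : Set (Finset X), Cfsg.IsSteinerSystem 5 6 B ∧
    ∀ g : G, (toPerm g : Equiv.Perm X) ∈ Cfsg.setSystemAut B := by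
  choose pt hpt using fun F : {F : Finset X // F.card = 5} =>
    exists_point (G := G) (F := F.1) hG hX F.2
  refine ⟨Set.range fun F : {F : Finset X // F.card = 5} => insert (pt F) F.1,
    ⟨?_, fun s hs => ⟨insert (pt ⟨s, hs⟩) s, ⟨⟨_, rfl⟩, subset_insert _ _⟩, ?_⟩⟩, fun g => ?_⟩
  · rintro _ ⟨F, rfl⟩
    rw [card_insert_of_notMem (hpt F).1, F.2]
  · rintro _ ⟨⟨⟨F, hF⟩, rfl⟩, hsub⟩
    set x := pt ⟨F, hF⟩ with hxdef
    obtain ⟨hx, hswap⟩ := hpt ⟨F, hF⟩
    rcases eq_or_ne s F with rfl | hne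
    · rfl
    have hxs : x ∈ s := by
      by_contra q
      refine hne (eq_of_subset_of_card_le (fun c hc => ?_) (by omega))
      exact (mem_insert.mp (hsub hc)).resolve_left fun e => q (by rw [hxdef, ← e]; exact hc)
    obtain ⟨e, he⟩ : ∃ e, e ∈ F ∧ e ∉ s := by
      by_contra q
      push Not at q
      exact hne (eq_of_subset_of_card_le q (by omega)).symm
    have hins : insert e s = insert x F := by
      refine eq_of_subset_of_card_le (insert_subset (mem_insert_of_mem he.1) hsub) ?_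
      rw [card_insert_of_notMem hx, card_insert_of_notMem he.2, hs, hF]
    obtain ⟨a, ha, b, hb, hab⟩ := one_lt_card.mp (show 1 < (F ∩ s).card from by
      have h1 : F.erase e ⊆ F ∩ s := fun c hc => by
        simp only [mem_erase] at hc
        rw [mem_inter]
        refine ⟨hc.2, (mem_insert.mp (hins ▸ mem_insert_of_mem hc.2 : c ∈ insert e s)).resolve_left
          hc.1⟩
      have h2 := card_le_card h1
      rw [card_erase_of_mem he.1, hF] at h2
      omega)
    rw [mem_inter] at ha hb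
    obtain ⟨t, ht⟩ := exists_swaps (G := G) hG hX hF ha.1 hb.1
    have htx := (hswap a ha.1 b hb.1 hab t ht).1
    have hts : Swaps s a b t := ht.congr fun c hc h1 h2 => by
      rcases mem_insert.mp (hsub hc) with q | q
      · exact Or.inr (by rw [q]; exact htx)
      · exact Or.inl q
    have hte : t • e = e := ht.2.2 e he.1 (fun q => he.2 (q ▸ ha.2)) (fun q => he.2 (q ▸ hb.2))
    rw [← ((hpt ⟨s, hs⟩).2 a ha.2 b hb.2 hab t hts).2 e he.2 hte]
    exact hins.symm
  · rw [Cfsg.setSystemAut, mem_stabilizer_set_iff_subset_smul_set (Set.toFinite _)]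
    rintro _ ⟨⟨F, hF⟩, rfl⟩
    have hF' : (F.image (g⁻¹ • ·)).card = 5 := by
      rw [card_image_of_injective _ (MulAction.injective _), hF]
    refine ⟨insert (pt ⟨_, hF'⟩) (F.image (g⁻¹ • ·)), ⟨⟨_, hF'⟩, rfl⟩, ?_⟩
    set x := pt ⟨_, hF'⟩
    obtain ⟨hx, hswap⟩ := hpt ⟨_, hF'⟩
    have hxF : g • x ∉ F := fun q => hx (mem_image.mpr ⟨g • x, q, inv_smul_smul g x⟩)
    obtain ⟨a, ha, b, hb, hab⟩ := one_lt_card.mp (by omega : 1 < F.card)
    obtain ⟨t, ht⟩ := exists_swaps (G := G) hG hX hF ha hb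
    have hconj : Swaps (F.image (g⁻¹ • ·)) (g⁻¹ • a) (g⁻¹ • b) (g⁻¹ * t * g) := by
      refine ⟨?_, ?_, fun c hc h1 h2 => ?_⟩
      · rw [mul_smul, smul_inv_smul, mul_smul, ht.1]
      · rw [mul_smul, smul_inv_smul, mul_smul, ht.2.1]
      · obtain ⟨c, hc', rfl⟩ := mem_image.mp hc
        rw [mul_smul, smul_inv_smul, mul_smul,
          ht.2.2 c hc' (fun q => h1 (by rw [q])) (fun q => h2 (by rw [q]))]
    have h1 := (hswap _ (mem_image_of_mem _ ha) _ (mem_image_of_mem _ hb)
      (fun q => hab (MulAction.injective _ q)) _ hconj).1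
    rw [mul_smul, mul_smul, inv_smul_eq_iff] at h1
    show (insert x (F.image (g⁻¹ • ·))).image (fun y => g • y) = insert (pt ⟨F, hF⟩) F
    rw [← ((hpt ⟨F, hF⟩).2 a ha b hb hab t ht).2 _ hxF h1]
    rw [image_insert, image_image]
    simp [Function.comp_def]

end Cfsg.Agent.H28.M12
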