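import Cfsg.Agent.H28.M12.Eleven
import Cfsg.Agent.H83.ClassConst
import Cfsg.Agent.H26.DefectZero

/-!
Values of the irreducible characters of a simple group of order 95040 at involutions.
-/

set_option autoImplicit false

namespace Cfsg.Agent.H28.M12

open Subgroup Cfsg.Agent.CharBasic

local instance fact_eleven_inv : Fact (Nat.Prime 11) := ⟨by norm_num⟩
local instance fact_two_inv : Fact (Nat.Prime 2) := ⟨Nat.prime_two⟩

variable {G : Type*} [Group G] [Finite G]

theorem exists_noncomm (hG : Cfsg.IsM12 G) : ∃ x y : G, x * y ≠ y * x := by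
  by_contra h
  push Not at h
  exact not_comm hG ⟨⟨h⟩⟩

theorem exists_degree (hG : Cfsg.IsM12 G) {χ : Cfsg.IrrCharacter G}
    (hne : (χ : G → ℂ) ≠ fun _ => 1) :
    ∃ d : ℕ, 3 ≤ d ∧ d < 309 ∧ d ∣ 95040 ∧ (χ : G → ℂ) 1 = d := by
  haveI := hG.1
  cases nonempty_fintype G
  obtain ⟨d, hd2, hd, hdN⟩ := H36.SelfCentral.exists_degree_two_le (not_comm hG) (χ := χ)
    (fun h => hne (congrArg Subtype.val h))
  have hcd : ∀ ψ : Cfsg.IrrCharacter G,
      (ψ : G → ℂ) 1 = (Cfsg.charDegree (ψ : G → ℂ) : ℂ) := fun ψ => (H83.charDegree_eq ψ.2).1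
  have hd' : Cfsg.charDegree (χ : G → ℂ) = d := by
    have := hcd χ
    rw [hd] at this
    exact_mod_cast this.symm
  have hd3 : d ≠ 2 := fun e => H81.SimpleDegree.charDegree_ne_two (exists_noncomm hG)
    (by rw [hG.2]; norm_num) hne (hd'.trans e)
  refine ⟨d, by omega, ?_, hG.2 ▸ hdN, hd⟩
  have h2 : ∑ ψ : Cfsg.IrrCharacter G, Cfsg.charDegree (ψ : G → ℂ) ^ 2 = Nat.card G := by
    apply Nat.cast_injective (R := ℂ)
    push_cast
    rw [← sum_sq_degree (G := G)]
    exact Finset.sum_congr rfl fun ψ _ => by rw [hcd ψ]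
  have h3 : d ^ 2 ≤ 95040 := by
    rw [← hG.2, ← h2, ← hd']
    exact Finset.single_le_sum (f := fun ψ : Cfsg.IrrCharacter G => Cfsg.charDegree (ψ : G → ℂ) ^ 2)
      (fun ψ _ => Nat.zero_le _) (Finset.mem_univ χ)
  by_contra hlt
  have h5 : 309 ^ 2 ≤ d ^ 2 := Nat.pow_le_pow_left (by omega) 2
  omega

/-- the value of a nontrivial character at an involution -/
theorem exists_value (hG : Cfsg.IsM12 G) {χ : Cfsg.IrrCharacter G}
    (hne : (χ : G → ℂ) ≠ fun _ => 1) {d : ℕ} (hd : (χ : G → ℂ) 1 = d) {z : G} (hz : orderOf z = 2) :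
    ∃ a : ℤ, (χ : G → ℂ) z = a ∧ a.natAbs < d ∧ (4 : ℤ) ∣ a - d := by
  classical
  haveI := hG.1
  have hd' : Cfsg.charDegree (χ : G → ℂ) = d := by
    have := (H83.charDegree_eq χ.2).1
    rw [hd] at this
    exact_mod_cast this.symm
  obtain ⟨μ, hμ, hdet, hval⟩ := H81.SimpleDegree.exists_eigenvalues (exists_noncomm hG) χ d hd' z
  have hsq : ∀ i, μ i = if μ i = -1 then (-1 : ℂ) else 1 := by
    intro i
    have := hμ i
    rw [hz] at this
    rcases sq_eq_one_iff.1 this with h | h <;> rw [h] <;> norm_num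
  set S := Finset.univ.filter fun i => μ i = -1 with hS
  have hk : S.card ≤ d := by simpa using Finset.card_le_univ S
  have hev : Even S.card := by
    rw [← neg_one_pow_eq_one_iff_even (R := ℂ) (by norm_num)]
    rw [Finset.prod_congr rfl fun i _ => hsq i, Finset.prod_ite, Finset.prod_const,
      Finset.prod_const_one, mul_one] at hdet
    exact hdet
  refine ⟨(d : ℤ) - 2 * S.card, ?_, ?_, ?_⟩
  · have := hval 1
    rw [pow_one] at this
    have hc : S.card + (Finset.univ.filter fun i => ¬ μ i = -1).card = d := by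
      rw [hS, Finset.card_filter_add_card_filter_not]
      simp
    rw [this, Finset.sum_congr rfl fun i _ => (pow_one (μ i)).trans (hsq i), Finset.sum_ite,
      Finset.sum_const, Finset.sum_const, nsmul_eq_mul, nsmul_eq_mul, ← hS]
    push_cast
    have hc' : (S.card : ℂ) + ((Finset.univ.filter fun i => ¬ μ i = -1).card : ℂ) = d := by
      exact_mod_cast hc
    rw [← hc']
    ring
  · refine lt_of_le_of_ne (by omega) fun he => ?_
    have hval1 : (χ : G → ℂ) z = ((d : ℤ) - 2 * S.card : ℤ) := by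
      have := hval 1
      rw [pow_one] at this
      have hc : S.card + (Finset.univ.filter fun i => ¬ μ i = -1).card = d := by
        rw [hS, Finset.card_filter_add_card_filter_not]
        simp
      rw [this, Finset.sum_congr rfl fun i _ => (pow_one (μ i)).trans (hsq i), Finset.sum_ite,
        Finset.sum_const, Finset.sum_const, nsmul_eq_mul, nsmul_eq_mul, ← hS]
      push_cast
      have hc' : (S.card : ℂ) + ((Finset.univ.filter fun i => ¬ μ i = -1).card : ℂ) = d := by
        exact_mod_cast hc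
      rw [← hc']
      ring
    refine absurd (H81.SimpleDegree.eq_one_of_norm (exists_noncomm hG) hne (y := z) ?_)
      (fun h => by rw [h, orderOf_one] at hz; norm_num at hz)
    rw [hval1, hd, Complex.norm_intCast, Complex.norm_natCast, ← Int.cast_abs, Int.abs_eq_natAbs, he]
    simp
  · obtain ⟨m, hm⟩ := hev
    exact ⟨-m, by omega⟩

theorem degree_dvd_index_mul [Fintype G] (χ : Cfsg.IrrCharacter G) {d : ℕ} (hd : (χ : G → ℂ) 1 = d)
    (hd0 : d ≠ 0) {z : G} {a : ℤ} (ha : (χ : G → ℂ) z = a) :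
    (d : ℤ) ∣ ((Subgroup.centralizer ({z} : Set G)).index : ℤ) * a := by
  refine H83.int_dvd_of_isIntegral (H83.omega_class_isIntegral χ.2 z) (by exact_mod_cast hd0) ?_
  rw [hd, ha]
  have : (d : ℂ) ≠ 0 := by exact_mod_cast hd0
  field_simp
  push_cast
  ring

theorem two_part_dvd [Fintype G] (χ : Cfsg.IrrCharacter G) {d : ℕ} (hd : (χ : G → ℂ) 1 = d)
    (hd0 : d ≠ 0) {z : G} (hodd : ¬ 2 ∣ (Subgroup.centralizer ({z} : Set G)).index) {a : ℤ}
    (ha : (χ : G → ℂ) z = a) : ((Nat.gcd d 64 : ℕ) : ℤ) ∣ a := by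
  have h := (Int.natCast_dvd_natCast.2 (Nat.gcd_dvd_left d 64)).trans
    (degree_dvd_index_mul χ hd hd0 ha)
  rw [Int.natCast_dvd, Int.natAbs_mul, Int.natAbs_natCast] at h
  rw [Int.natCast_dvd]
  refine Nat.Coprime.dvd_of_dvd_mul_left ?_ h
  refine Nat.Coprime.coprime_dvd_left (Nat.gcd_dvd_right d 64) ?_
  rw [show (64 : ℕ) = 2 ^ 6 by norm_num]
  exact Nat.Coprime.pow_left 6 ((Nat.Prime.coprime_iff_not_dvd Nat.prime_two).2 hodd)

/-- a degree divisible by five gives a value divisible by five -/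
theorem five_dvd_value (hG : Cfsg.IsM12 G) {χ : Cfsg.IrrCharacter G} {d : ℕ}
    (hd : (χ : G → ℂ) 1 = d) (h5 : 5 ∣ d) {z t : G} (hz : orderOf z = 2) (ht : orderOf t = 5)
    (hc : Commute z t) {a : ℤ} (ha : (χ : G → ℂ) z = a) : (5 : ℤ) ∣ a := by
  classical
  haveI := hG.1
  cases nonempty_fintype G
  have hd' : Cfsg.charDegree (χ : G → ℂ) = d := by
    have := (H83.charDegree_eq χ.2).1
    rw [hd] at this
    exact_mod_cast this.symm
  have hw : orderOf (z * t) = 10 := by
    rw [hc.orderOf_mul_eq_mul_orderOf_of_coprime (by rw [hz, ht]; norm_num), hz, ht]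
  have hw5 : (z * t) ^ 5 = z := by
    rw [hc.mul_pow, show t ^ 5 = 1 from ht ▸ pow_orderOf_eq_one t, mul_one,
      show (5 : ℕ) = 2 * 2 + 1 by norm_num, pow_succ, pow_mul,
      show z ^ 2 = 1 from hz ▸ pow_orderOf_eq_one z, one_pow, one_mul]
  obtain ⟨μ, hμ, -, hval⟩ :=
    H81.SimpleDegree.exists_eigenvalues (exists_noncomm hG) χ d hd' (z * t)
  have hsum : ∑ k ∈ Finset.range 10, (χ : G → ℂ) ((z * t) ^ k) =
      10 * ((Finset.univ.filter fun i => μ i = 1).card : ℂ) := by
    rw [Finset.sum_congr rfl fun k _ => hval k, Finset.sum_comm]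
    rw [Finset.sum_congr rfl (g := fun i => if μ i = 1 then (10 : ℂ) else 0) fun i _ => ?_]
    · rw [← Finset.sum_filter, Finset.sum_const, nsmul_eq_mul, mul_comm]
    · split_ifs with h
      · simp [h]
      · rw [geom_sum_eq h, show μ i ^ 10 = 1 from hw ▸ hμ i, sub_self, zero_div]
  have hzero : ∀ k ∈ Finset.range 10, k ≠ 0 → k ≠ 5 → (χ : G → ℂ) ((z * t) ^ k) = 0 := by
    intro k hk h0 h5'
    obtain ⟨m, ρ, hρ, hχ⟩ := χ.2
    rw [← hχ]
    haveI := hρ
    refine H26.defect_zero_vanish ρ (p := 5) (n := 1) (by norm_num) (by rw [hG.2]; norm_num)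
      (by rw [hG.2]; norm_num) ?_ ?_
    · have : (m : ℂ) = d := by
        rw [← hd, ← hχ, Representation.char_one, Module.finrank_fin_fun]
      rw [Module.finrank_fin_fun, show m = d by exact_mod_cast this, pow_one]
      exact h5
    · rw [orderOf_pow, hw]
      have hk' := Finset.mem_range.1 hk
      interval_cases k <;> first | omega | norm_num
  rw [← Finset.sum_subset (s₁ := ({0, 5} : Finset ℕ)) (by decide) fun k hk hk' => hzero k hk
      (fun e => hk' (by simp [e])) (fun e => hk' (by simp [e])),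
    Finset.sum_pair (by norm_num), pow_zero, hw5, hd, ha] at hsum
  have h : (d : ℤ) + a = 10 * ((Finset.univ.filter fun i => μ i = 1).card : ℤ) := by
    exact_mod_cast hsum
  omega

/-- no element of order 11 commutes with an element of order prime to 11 -/
theorem not_eleven_dvd_centralizer (hG : Cfsg.IsM12 G) {t : G} (ht : ¬ orderOf t ∣ 11) :
    ¬ 11 ∣ Nat.card (Subgroup.centralizer ({t} : Set G)) := by
  intro h
  obtain ⟨x, hx⟩ := exists_prime_orderOf_dvd_card' 11 h
  rw [← Subgroup.orderOf_coe] at hx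
  obtain ⟨P, hP⟩ := (IsPGroup.of_card (p := 11) (n := 1) (G := Subgroup.zpowers (x : G))
    (by rw [Nat.card_zpowers, hx, pow_one])).exists_le_sylow
  have hz : Subgroup.zpowers (x : G) = (P : Subgroup G) :=
    Subgroup.eq_of_le_of_card_ge hP (by rw [card_eleven hG P, Nat.card_zpowers, hx])
  have ht' : t ∈ Subgroup.centralizer ((P : Subgroup G) : Set G) := by
    rw [H69.M11.centralizer_eq_of_zpowers hz]
    exact Subgroup.mem_centralizer_singleton_iff.2
      (Subgroup.mem_centralizer_singleton_iff.1 x.2).symm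
  rw [centralizer_eleven hG P] at ht'
  exact ht ((Subgroup.orderOf_dvd_natCard _ ht').trans (dvd_of_eq (card_eleven hG P)))

/-- no involution inverts an element of order 11 -/
theorem not_inverting (hG : Cfsg.IsM12 G) {x a : G} (hx : orderOf x = 11) (ha : orderOf a = 2)
    (hax : a * x * a = x⁻¹) : False := by
  obtain ⟨P, hP⟩ := (IsPGroup.of_card (p := 11) (n := 1) (G := Subgroup.zpowers x)
    (by rw [Nat.card_zpowers, hx, pow_one])).exists_le_sylow
  have hz : Subgroup.zpowers x = (P : Subgroup G) :=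
    Subgroup.eq_of_le_of_card_ge hP (by rw [card_eleven hG P, Nat.card_zpowers, hx])
  have ha2 : a * a = 1 := by rw [← pow_two, ← ha]; exact pow_orderOf_eq_one a
  have hai : a⁻¹ = a := inv_eq_of_mul_eq_one_right ha2
  have hmem : a ∈ Subgroup.normalizer ((P : Subgroup G) : Set G) := by
    rw [← hz]
    have key : ∀ g ∈ Subgroup.zpowers x, a * g * a⁻¹ ∈ Subgroup.zpowers x := by
      intro g hg
      obtain ⟨i, rfl⟩ := Subgroup.mem_zpowers_iff.1 hg
      rw [← conj_zpow, hai, hax, inv_zpow]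
      exact inv_mem hg
    refine Subgroup.mem_normalizer_iff.2 fun g => ⟨key g, fun hg => ?_⟩
    have h := key _ hg
    rw [hai] at h
    have : a * (a * g * a) * a = g := by
      rw [show a * (a * g * a) * a = (a * a) * g * (a * a) by group, ha2, one_mul, mul_one]
    rwa [this] at h
  have := Subgroup.orderOf_dvd_natCard _ hmem
  rw [ha, card_normalizer_eleven hG P] at this
  norm_num at this

/-- the class equation for two conjugates of an involution with product of order 11 -/
theorem class_equation (hG : Cfsg.IsM12 G) [Fintype G] {z x : G} (hz : orderOf z = 2)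
    (hx : orderOf x = 11) :
    ∑ χ : Cfsg.IrrCharacter G, (starRingEnd ℂ) ((χ : G → ℂ) z) * (starRingEnd ℂ) ((χ : G → ℂ) z) *
      (χ : G → ℂ) x / (χ : G → ℂ) 1 = 0 := by
  have h := H83.card_pairs_mul_card z z x
  haveI : IsEmpty {a : G // IsConj z a ∧ IsConj z (a⁻¹ * x)} := by
    refine ⟨fun ⟨a, ha, hb⟩ => ?_⟩
    have ord : ∀ g, IsConj z g → orderOf g = 2 := by
      intro g hg
      obtain ⟨c, rfl⟩ := isConj_iff.1 hg
      exact ((MulAut.conj c).orderOf_eq z).trans hz
    have ha2 := ord a ha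
    have hai : a⁻¹ = a := inv_eq_of_mul_eq_one_right (by
      rw [← pow_two, ← ha2]; exact pow_orderOf_eq_one a)
    have hb2 : (a⁻¹ * x) * (a⁻¹ * x) = 1 := by
      rw [← pow_two, ← ord _ hb]; exact pow_orderOf_eq_one _
    rw [hai] at hb2
    refine not_inverting hG hx ha2 (eq_inv_of_mul_eq_one_left ?_)
    rw [← hb2]; group
  rw [show Nat.card {a : G // IsConj z a ∧ IsConj z (a⁻¹ * x)} = 0 from Nat.card_of_isEmpty,
    Nat.cast_zero, mul_zero] at h
  have h0 : ((Subgroup.centralizer ({z} : Set G)).index : ℂ) ≠ 0 := by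
    exact_mod_cast Subgroup.index_ne_zero_of_finite
  exact (mul_eq_zero.1 h.symm).resolve_left (mul_ne_zero h0 h0)

end Cfsg.Agent.H28.M12
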