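import Mathlib.Data.List.Basic
import Mathlib.Data.Nat.Basic
import Mathlib.Data.Int.Init

/-!
The finite searches for the degrees and involution values in the principal 11-block of a simple group
of order 95040.
-/

set_option autoImplicit false

namespace Cfsg.Agent.H28.M12.Search

/-- degrees congruent to one or minus one -/
def XL : List ℕ := [10, 12, 32, 45, 54, 120, 144]

/-- degrees congruent to five or minus five -/
def YL : List ℕ := [5, 6, 16, 27, 60, 72, 160, 192, 270]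

/-- the sign -/
def sgn (d : ℕ) : ℤ := if d % 11 = 1 then 1 else -1

/-- the 2-part up to 64 -/
def two (d : ℕ) : ℕ := Nat.gcd d 64

/-- can `a` be the value at an involution: `k = true` for a 2-central one, `k = false` for one
centralizing an element of order five -/
def ok (k : Bool) (d : ℕ) (a : ℤ) : Bool :=
  (a.natAbs < d : Bool) && ((a - (d : ℤ)) % 4 == 0) &&
    (if k then a % (two d : ℤ) == 0 else (d % 5 != 0 || a % 5 == 0))

/-- candidate values -/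
def dom (k : Bool) (d : ℕ) : List ℤ :=
  ((List.range 131).map fun n : ℕ => (n : ℤ) - 65).filter (ok k d)

/-- centralizer orders -/
def hs (k : Bool) : List ℕ :=
  if k then [64, 192, 320, 576, 960, 1728, 2880]
  else [10, 20, 30, 40, 60, 80, 90, 120, 160, 180, 240, 270, 320, 360, 480, 540, 720, 960, 1080,
    1440, 2160, 2880, 4320]

/-- integrality, the bound and Cauchy–Schwarz on the remaining characters -/
def okH (d0 d1 d2 d3 f : ℕ) (a0 a1 a2 a3 e : ℤ) (h : ℕ) : Bool :=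
  (1 + a0 ^ 2 + a1 ^ 2 + a2 ^ 2 + a3 ^ 2 + 2 * e ^ 2 ≤ (h : ℤ) : Bool) &&
    ((((95040 / h : ℕ) : ℤ) * a0) % (d0 : ℤ) == 0) && ((((95040 / h : ℕ) : ℤ) * a1) % (d1 : ℤ) == 0) &&
    ((((95040 / h : ℕ) : ℤ) * a2) % (d2 : ℤ) == 0) && ((((95040 / h : ℕ) : ℤ) * a3) % (d3 : ℤ) == 0) &&
    ((((95040 / h : ℕ) : ℤ) * e) % (f : ℤ) == 0) &&
    ((1 + d0 * a0 + d1 * a1 + d2 * a2 + d3 * a3 + 2 * (f * e)) ^ 2 ≤
      ((95040 : ℤ) - 1 - d0 ^ 2 - d1 ^ 2 - d2 ^ 2 - d3 ^ 2 - 2 * f ^ 2) *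
        ((h : ℤ) - (1 + a0 ^ 2 + a1 ^ 2 + a2 ^ 2 + a3 ^ 2 + 2 * e ^ 2)) : Bool)

/-- the class equation -/
def eqn (d0 d1 d2 d3 f : ℕ) (s a0 a1 a2 a3 e : ℤ) : Bool :=
  ((d0 * d1 * d2 * d3 * f : ℕ) : ℤ) + sgn d0 * a0 ^ 2 * ((d1 * d2 * d3 * f : ℕ) : ℤ) +
    sgn d1 * a1 ^ 2 * ((d0 * d2 * d3 * f : ℕ) : ℤ) + sgn d2 * a2 ^ 2 * ((d0 * d1 * d3 * f : ℕ) : ℤ) +
    sgn d3 * a3 ^ 2 * ((d0 * d1 * d2 * f : ℕ) : ℤ) + s * e ^ 2 * ((d0 * d1 * d2 * d3 : ℕ) : ℤ) == 0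

/-- the last rational value is determined -/
def a3of (d0 d1 d2 d3 : ℕ) (s a0 a1 a2 e : ℤ) : ℤ :=
  sgn d3 * -(1 + sgn d0 * a0 + sgn d1 * a1 + sgn d2 * a2 + s * e)

/-- a possible column -/
def good (k : Bool) (d0 d1 d2 d3 f : ℕ) (s a0 a1 a2 e : ℤ) : Bool :=
  ok k d3 (a3of d0 d1 d2 d3 s a0 a1 a2 e) &&
    (eqn d0 d1 d2 d3 f s a0 a1 a2 (a3of d0 d1 d2 d3 s a0 a1 a2 e) e &&
      (hs k).any (okH d0 d1 d2 d3 f a0 a1 a2 (a3of d0 d1 d2 d3 s a0 a1 a2 e) e))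

/-- all possible columns satisfy `P` -/
def allCols (k : Bool) (d0 d1 d2 d3 f : ℕ) (s : ℤ)
    (P : ℤ → ℤ → ℤ → ℤ → ℤ → ℕ → Bool) : Bool :=
  (dom k f).all fun e => (dom k d0).all fun a0 => (dom k d1).all fun a1 => (dom k d2).all fun a2 =>
    !good k d0 d1 d2 d3 f s a0 a1 a2 e ||
      (hs k).all fun h => !okH d0 d1 d2 d3 f a0 a1 a2 (a3of d0 d1 d2 d3 s a0 a1 a2 e) e h ||
        P a0 a1 a2 (a3of d0 d1 d2 d3 s a0 a1 a2 e) e h

/-- the kind of involution excluding a degree set -/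
def kind (d0 d1 d2 d3 : ℕ) : Bool := decide (2 ≤ ([d0, d1, d2, d3].filter (· == 32)).length)

/-- the degree equation with the sum of squares -/
def degOK (d0 d1 d2 d3 f : ℕ) (s : ℤ) : Bool :=
  (1 + sgn d0 * d0 + sgn d1 * d1 + sgn d2 * d2 + sgn d3 * d3 + s * f == 0) &&
    (((f : ℤ) + 5 * s) % 11 == 0) &&
    (1 + d0 ^ 2 + d1 ^ 2 + d2 ^ 2 + d3 ^ 2 + 2 * f ^ 2 ≤ 95040 : Bool)

/-- every degree set but one is excluded -/
def chk (d0 d1 d2 d3 f : ℕ) (s : ℤ) : Bool :=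
  !degOK d0 d1 d2 d3 f s || (d0 == 45 && d1 == 54 && d2 == 120 && d3 == 144 && f == 16 && s == -1) ||
    allCols (kind d0 d1 d2 d3) d0 d1 d2 d3 f s fun _ _ _ _ _ _ => false

/-- over all sorted degree sets -/
def chkAll : Bool :=
  XL.all fun d0 => XL.all fun d1 => !(decide (d0 ≤ d1)) || XL.all fun d2 => !(decide (d1 ≤ d2)) ||
    XL.all fun d3 => !(decide (d2 ≤ d3)) || YL.all fun f =>
      chk d0 d1 d2 d3 f 1 && chk d0 d1 d2 d3 f (-1)

theorem chkAll_eq : chkAll = true := by decide +kernel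

theorem u_column : allCols true 45 54 120 144 16 (-1) (fun a0 a1 a2 a3 e h =>
    a0 == -3 && a1 == 6 && a2 == -8 && a3 == 0 && e == 0 && h == 192) = true := by decide +kernel

theorem s_column : allCols false 45 54 120 144 16 (-1) (fun a0 a1 a2 a3 e h =>
    a0 == 5 && a1 == 6 && a2 == 0 && ((a3 == 4 && e == 4) || (a3 == -4 && e == -4)) &&
      (h == 120 || h == 240)) = true := by decide +kernel

end Cfsg.Agent.H28.M12.Search
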