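import Cfsg.Agent.H28.M12.Block
import Cfsg.Agent.H28.M12.Search
import Cfsg.Agent.H28.M12.Involution

/-!
The column of an involution satisfies the conditions of the searches.
-/

set_option autoImplicit false

namespace Cfsg.Agent.H28.M12

open Subgroup Cfsg.Agent.CharBasic

local instance fact_eleven_col : Fact (Nat.Prime 11) := ⟨by norm_num⟩

universe u

variable {G : Type u} [Group G] [Fintype G]

/-- reindexing of the four rational characters -/
def Block.perm (B : Block G) (σ : Equiv.Perm (Fin 4)) : Block G where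
  c := fun i => B.c (σ i)
  δ := fun i => B.δ (σ i)
  θ := B.θ
  θ' := B.θ'
  s := B.s
  δ_sign := fun i => B.δ_sign (σ i)
  s_sign := B.s_sign
  inj := B.inj.comp σ.injective
  ne_θ := B.ne_θ
  c_ne := fun i => B.c_ne (σ i)
  θ_ne := B.θ_ne
  congr := fun i => B.congr (σ i)
  congrθ := B.congrθ
  val := fun x hx => ⟨fun i => (B.val x hx).1 (σ i), (B.val x hx).2⟩
  regular := fun g hg => ⟨(B.regular g hg).1, by
    rw [Equiv.sum_comp σ fun i => (B.δ i : ℂ) * (B.c i : G → ℂ) g]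
    exact (B.regular g hg).2⟩
  other := fun χ h1 h2 h3 h4 => B.other χ
    (fun i => by
      have := h1 (σ.symm i)
      rwa [Equiv.apply_symm_apply] at this) h2 h3 h4

open Classical in
/-- the characters outside the block -/
noncomputable def Block.rest (B : Block G) : Finset (Cfsg.IrrCharacter G) :=
  Finset.univ.filter fun χ => (∀ i, χ ≠ B.c i) ∧ χ ≠ B.θ ∧ χ ≠ B.θ' ∧ (χ : G → ℂ) ≠ fun _ => 1

theorem Block.split {M : Type*} [AddCommMonoid M] (B : Block G)
    (w : Cfsg.IrrCharacter G → M) :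
    ∑ χ, w χ = w (H36.SelfCentral.triv G) + ∑ i, w (B.c i) + w B.θ + w B.θ' + ∑ χ ∈ B.rest, w χ := by
  classical
  set T := H36.SelfCentral.triv G with hT
  have hTf : (T : G → ℂ) = fun _ => 1 := rfl
  have h1 : T ≠ B.θ := fun h => B.θ_ne.1 (by rw [← h, hTf])
  have h2 : T ≠ B.θ' := fun h => B.θ_ne.2 (by rw [← h, hTf])
  have h3 : ∀ i, T ≠ B.c i := fun i h => (B.c_ne i).2.2 (by rw [← h, hTf])
  have hu : (Finset.univ : Finset (Cfsg.IrrCharacter G)) =
      {T} ∪ Finset.univ.image B.c ∪ {B.θ} ∪ {B.θ'} ∪ B.rest := by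
    ext χ
    simp only [Finset.mem_univ, Finset.mem_union, Finset.mem_singleton, Finset.mem_image, true_and,
      Block.rest, Finset.mem_filter, true_iff]
    by_cases a1 : χ = T
    · tauto
    by_cases a2 : ∃ i, B.c i = χ
    · tauto
    by_cases a3 : χ = B.θ
    · tauto
    by_cases a4 : χ = B.θ'
    · tauto
    exact Or.inr ⟨fun i h => a2 ⟨i, h.symm⟩, a3, a4, fun h => a1 (Subtype.ext h)⟩
  rw [hu, Finset.sum_union, Finset.sum_union, Finset.sum_union, Finset.sum_union,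
    Finset.sum_singleton, Finset.sum_singleton, Finset.sum_singleton,
    Finset.sum_image fun i _ j _ h => B.inj h]
  · simp only [Finset.disjoint_singleton_left, Finset.mem_image, Finset.mem_univ, true_and,
      not_exists]
    exact fun i h => h3 i h.symm
  · simp only [Finset.disjoint_singleton_right, Finset.mem_union, Finset.mem_singleton,
      Finset.mem_image, Finset.mem_univ, true_and, not_or, not_exists]
    exact ⟨fun h => h1 h.symm, fun i h => (B.c_ne i).1 h⟩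
  · simp only [Finset.disjoint_singleton_right, Finset.mem_union, Finset.mem_singleton,
      Finset.mem_image, Finset.mem_univ, true_and, not_or, not_exists]
    exact ⟨⟨fun h => h2 h.symm, fun i h => (B.c_ne i).2.1 h⟩, fun h => B.ne_θ h.symm⟩
  · rw [Finset.disjoint_left]
    simp only [Finset.mem_union, Finset.mem_singleton, Finset.mem_image, Finset.mem_univ, true_and,
      Block.rest, Finset.mem_filter]
    rintro χ (((rfl | ⟨i, rfl⟩) | rfl) | rfl) ⟨a, b, c, d⟩
    · exact d hTf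
    · exact a i rfl
    · exact b rfl
    · exact c rfl

set_option synthInstance.maxSize 1024 in
theorem mem_XL : ∀ d < 309, d ∣ 95040 → 3 ≤ d → (d % 11 = 1 ∨ d % 11 = 10) → d ∈ Search.XL := by
  decide +kernel

set_option synthInstance.maxSize 1024 in
theorem mem_YL : ∀ d < 309, d ∣ 95040 → 3 ≤ d → (d % 11 = 5 ∨ d % 11 = 6) → d ∈ Search.YL := by
  decide +kernel

theorem Block.degree (hG : Cfsg.IsM12 G) (B : Block G) (i : Fin 4) :
    ∃ d : ℕ, (B.c i : G → ℂ) 1 = d ∧ d ∈ Search.XL ∧ B.δ i = Search.sgn d := by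
  obtain ⟨d, h3, hlt, hN, hd⟩ := exists_degree hG (B.c_ne i).2.2
  obtain ⟨m, hm⟩ := B.congr i
  rw [hd] at hm
  have hm' : (d : ℤ) = B.δ i + 11 * m := by exact_mod_cast hm
  have hmod : (d % 11 = 1 ∧ B.δ i = 1) ∨ (d % 11 = 10 ∧ B.δ i = -1) := by
    rcases B.δ_sign i with e | e <;> omega
  refine ⟨d, hd, mem_XL d hlt hN h3 ?_, ?_⟩
  · omega
  · rcases hmod with ⟨h1, h2⟩ | ⟨h1, h2⟩ <;> simp [Search.sgn, h1, h2]

theorem Block.degreeθ (hG : Cfsg.IsM12 G) (B : Block G) :
    ∃ f : ℕ, (B.θ : G → ℂ) 1 = f ∧ (B.θ' : G → ℂ) 1 = f ∧ f ∈ Search.YL ∧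
      ((f : ℤ) + 5 * B.s) % 11 = 0 := by
  obtain ⟨f, h3, hlt, hN, hf⟩ := exists_degree hG B.θ_ne.1
  obtain ⟨m, hm⟩ := B.congrθ
  rw [hf] at hm
  have hm' : (f : ℤ) = -5 * B.s + 11 * m := by exact_mod_cast hm
  refine ⟨f, hf, ?_, mem_YL f hlt hN h3 ?_, by omega⟩
  · rw [(B.regular 1 (by simp)).1, hf]
  · rcases B.s_sign with e | e <;> omega

/-- the kind `true` is a 2-central involution, the kind `false` one centralizing an element of order 5 -/
def KindData (k : Bool) (z : G) : Prop :=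
  if k then 64 ∣ Nat.card (Subgroup.centralizer ({z} : Set G))
  else ∃ t : G, orderOf t = 5 ∧ Commute z t

theorem hs_true : ∀ h ∈ Nat.divisors 8640, 64 ∣ h → h ≤ 7920 → h ∈ Search.hs true := by
  decide +kernel

theorem hs_false : ∀ h ∈ Nat.divisors 8640, 10 ∣ h → h ≤ 7920 → h ∈ Search.hs false := by
  decide +kernel

theorem le_of_mem_hs : ∀ k, ∀ h ∈ Search.hs k, h ≤ 4320 ∧ 0 < h := by decide +kernel

theorem centralizer_mem_hs (hG : Cfsg.IsM12 G) {z : G} (hz : orderOf z = 2) {k : Bool}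
    (hk : KindData k z) : Nat.card (Subgroup.centralizer ({z} : Set G)) ∈ Search.hs k := by
  haveI := hG.1
  set h := Nat.card (Subgroup.centralizer ({z} : Set G)) with hh
  have hne : Subgroup.centralizer ({z} : Set G) ≠ ⊤ := by
    intro e
    have hc : z ∈ Subgroup.center G := Subgroup.mem_center_iff.2 fun g =>
      (Subgroup.mem_centralizer_singleton_iff.1 (show g ∈ Subgroup.centralizer {z} by rw [e]; trivial))
    rcases (inferInstance : (Subgroup.center G).Normal).eq_bot_or_eq_top with hb | ht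
    · rw [hb, Subgroup.mem_bot] at hc
      rw [hc, orderOf_one] at hz
      norm_num at hz
    · exact not_comm hG ⟨⟨fun a b => (Subgroup.mem_center_iff.1
        (show a ∈ Subgroup.center G by rw [ht]; trivial) b).symm⟩⟩
  have hmul := card_mul_index hG (Subgroup.centralizer ({z} : Set G))
  have h12 := twelve_le_index hG hne
  have hle : h ≤ 7920 := by nlinarith
  have h11 := not_eleven_dvd_centralizer hG (t := z) (by rw [hz]; norm_num)
  have hd : h ∣ 8640 := by
    refine (Nat.Coprime.dvd_of_dvd_mul_left ?_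
      (show h ∣ 11 * 8640 from ⟨_, hmul.symm⟩))
    exact ((Nat.Prime.coprime_iff_not_dvd (by norm_num)).2 h11).symm
  cases k with
  | true =>
    have h64 : 64 ∣ h := by simpa [KindData] using hk
    exact hs_true h (Nat.mem_divisors.2 ⟨hd, by norm_num⟩) h64 hle
  | false =>
    obtain ⟨t, ht, hc⟩ : ∃ t : G, orderOf t = 5 ∧ Commute z t := by simpa [KindData] using hk
    refine hs_false h (Nat.mem_divisors.2 ⟨hd, by norm_num⟩) ?_ hle
    have hw : orderOf (z * t) = 10 := by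
      rw [hc.orderOf_mul_eq_mul_orderOf_of_coprime (by rw [hz, ht]; norm_num), hz, ht]
    rw [← hw]
    exact Subgroup.orderOf_dvd_natCard _ (Subgroup.mem_centralizer_singleton_iff.2
      ((Commute.refl z).mul_right hc).symm)

theorem ok_of_value (hG : Cfsg.IsM12 G) {χ : Cfsg.IrrCharacter G}
    (hne : (χ : G → ℂ) ≠ fun _ => 1) {d : ℕ} (hd : (χ : G → ℂ) 1 = d) {z : G} (hz : orderOf z = 2)
    {k : Bool} (hk : KindData k z) {a : ℤ} (ha : (χ : G → ℂ) z = a) : Search.ok k d a = true := by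
  obtain ⟨b, hb, hlt, h4⟩ := exists_value hG hne hd hz
  have hab : a = b := by rw [ha] at hb; exact_mod_cast hb
  subst hab
  have hd0 : d ≠ 0 := by omega
  simp only [Search.ok, Bool.and_eq_true, decide_eq_true_eq, beq_iff_eq]
  refine ⟨⟨hlt, by omega⟩, ?_⟩
  cases k with
  | true =>
    have h64 : 64 ∣ Nat.card (Subgroup.centralizer ({z} : Set G)) := by simpa [KindData] using hk
    simp only [if_true, beq_iff_eq, Search.two]
    refine Int.emod_eq_zero_of_dvd (two_part_dvd χ hd hd0 (fun h2 => ?_) ha)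
    have hmul := card_mul_index hG (Subgroup.centralizer ({z} : Set G))
    have := Nat.mul_dvd_mul h64 h2
    rw [hmul] at this
    norm_num at this
  | false =>
    obtain ⟨t, ht, hc⟩ : ∃ t : G, orderOf t = 5 ∧ Commute z t := by simpa [KindData] using hk
    simp only [Bool.false_eq_true, if_false, Bool.or_eq_true, bne_iff_ne, beq_iff_eq]
    by_cases h5 : 5 ∣ d
    · exact Or.inr (Int.emod_eq_zero_of_dvd (five_dvd_value hG hd h5 hz ht hc ha))
    · left; omega

theorem conj_int (a : ℤ) : (starRingEnd ℂ) (a : ℂ) = (a : ℂ) := map_intCast _ a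

/-- the column of an involution -/
theorem exists_column (hG : Cfsg.IsM12 G) (B : Block G) {d : Fin 4 → ℕ}
    (hd : ∀ i, (B.c i : G → ℂ) 1 = d i) (hδ : ∀ i, B.δ i = Search.sgn (d i))
    {f : ℕ} (hf : (B.θ : G → ℂ) 1 = f)
    {z : G} (hz : orderOf z = 2) {k : Bool} (hk : KindData k z) :
    ∃ a : Fin 4 → ℤ, ∃ e : ℤ, (∀ i, (B.c i : G → ℂ) z = a i) ∧ (B.θ : G → ℂ) z = e ∧
      (B.θ' : G → ℂ) z = e ∧
      Search.good k (d 0) (d 1) (d 2) (d 3) f B.s (a 0) (a 1) (a 2) e = true ∧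
      Search.okH (d 0) (d 1) (d 2) (d 3) f (a 0) (a 1) (a 2) (a 3) e
        (Nat.card (Subgroup.centralizer ({z} : Set G))) = true ∧
      a 3 = Search.a3of (d 0) (d 1) (d 2) (d 3) B.s (a 0) (a 1) (a 2) e ∧
      (∀ i, Search.ok k (d i) (a i) = true) ∧ Search.ok k f e = true := by
  classical
  set h := Nat.card (Subgroup.centralizer ({z} : Set G)) with hh
  have hv : ∀ χ : Cfsg.IrrCharacter G, ∃ a : ℤ, (χ : G → ℂ) z = a := by
    intro χ
    by_cases hne : (χ : G → ℂ) = fun _ => 1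
    · exact ⟨1, by rw [hne]; simp⟩
    · obtain ⟨n, -, -, -, hn⟩ := exists_degree hG hne
      obtain ⟨a, ha, -⟩ := exists_value hG hne hn hz
      exact ⟨a, ha⟩
  choose v hv using hv
  let dg : Cfsg.IrrCharacter G → ℤ := fun χ => (Cfsg.charDegree (χ : G → ℂ) : ℤ)
  have hdg : ∀ χ : Cfsg.IrrCharacter G, (χ : G → ℂ) 1 = (dg χ : ℂ) := fun χ => by
    rw [(H83.charDegree_eq χ.2).1]
    simp [dg]
  have hz11 : ¬ 11 ∣ orderOf z := by rw [hz]; norm_num
  have hθ' : (B.θ' : G → ℂ) z = (v B.θ : ℂ) := by rw [(B.regular z hz11).1, hv]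
  have hvθ' : v B.θ' = v B.θ := by
    rw [hv] at hθ'; exact_mod_cast hθ'
  have hdθ' : dg B.θ' = (f : ℤ) := by
    have := hdg B.θ'
    rw [(B.regular 1 (by simp)).1, hf] at this
    exact_mod_cast this.symm
  have hdθ : dg B.θ = (f : ℤ) := by
    have := hdg B.θ; rw [hf] at this; exact_mod_cast this.symm
  have hdc : ∀ i, dg (B.c i) = (d i : ℤ) := fun i => by
    have := hdg (B.c i); rw [hd i] at this; exact_mod_cast this.symm
  set T := H36.SelfCentral.triv G with hTdef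
  have hdT : dg T = 1 := by
    have := hdg T
    rw [show (T : G → ℂ) 1 = 1 from rfl] at this
    exact_mod_cast this.symm
  have hvT : v T = 1 := by
    have := hv T
    rw [show (T : G → ℂ) z = 1 from rfl] at this
    exact_mod_cast this.symm
  set a : Fin 4 → ℤ := fun i => v (B.c i) with ha
  set e := v B.θ with he
  -- the relation
  have hrel : 1 + ∑ i, Search.sgn (d i) * a i + B.s * e = 0 := by
    have := (B.regular z hz11).2
    rw [Finset.sum_congr rfl fun i _ => show (B.δ i : ℂ) * (B.c i : G → ℂ) z =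
      ((Search.sgn (d i) * a i : ℤ) : ℂ) by rw [hv, hδ]; push_cast; rfl, hv] at this
    exact_mod_cast this
  rw [Fin.sum_univ_four] at hrel
  have ha3 : a 3 = Search.a3of (d 0) (d 1) (d 2) (d 3) B.s (a 0) (a 1) (a 2) e := by
    have hsq : Search.sgn (d 3) * Search.sgn (d 3) = 1 := by unfold Search.sgn; split_ifs <;> rfl
    unfold Search.a3of
    linear_combination (Search.sgn (d 3)) * hrel - a 3 * hsq
  have hok : ∀ i, Search.ok k (d i) (a i) = true := fun i =>
    ok_of_value hG (B.c_ne i).2.2 (hd i) hz hk (hv _)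
  have hoke : Search.ok k f e = true := ok_of_value hG B.θ_ne.1 hf hz hk (hv _)
  have hd0 : ∀ i, d i ≠ 0 := fun i h0 => by
    have := hok i
    simp [Search.ok, h0] at this
  have hf0 : f ≠ 0 := fun h0 => by simp [Search.ok, h0] at hoke
  -- the class equation
  obtain ⟨x, hx⟩ := exists_prime_orderOf_dvd_card' (G := G) 11 (by rw [hG.2]; norm_num)
  have hce := class_equation hG hz hx
  rw [B.split, Finset.sum_eq_zero (s := B.rest) (fun χ hχ => by
    obtain ⟨h1, h2, h3, h4⟩ := (Finset.mem_filter.1 hχ).2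
    rw [(B.other χ h1 h2 h3 h4).2 x hx, mul_zero, zero_div]), add_zero,
    Finset.sum_congr rfl (fun i _ => show (starRingEnd ℂ) ((B.c i : G → ℂ) z) *
      (starRingEnd ℂ) ((B.c i : G → ℂ) z) * (B.c i : G → ℂ) x / (B.c i : G → ℂ) 1 =
      (Search.sgn (d i) : ℂ) * (a i : ℂ) ^ 2 / (d i : ℂ) by
        rw [hv, conj_int, (B.val x hx).1 i, hδ, hd]; simp only [ha]; ring),
    show (T : G → ℂ) z = 1 from rfl, show (T : G → ℂ) x = 1 from rfl,
    show (T : G → ℂ) 1 = 1 from rfl, map_one, hθ', (B.regular 1 (by simp)).1, hv, conj_int,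
    hf] at hce
  have hpair := (B.val x hx).2
  have hce' : 1 + ∑ i, (Search.sgn (d i) : ℂ) * (a i : ℂ) ^ 2 / (d i : ℂ) +
      (B.s : ℂ) * (e : ℂ) ^ 2 / (f : ℂ) = 0 := by
    rw [← hce, ← hpair]; ring
  have heqn : Search.eqn (d 0) (d 1) (d 2) (d 3) f B.s (a 0) (a 1) (a 2) (a 3) e = true := by
    rw [Fin.sum_univ_four] at hce'
    simp only [Search.eqn, beq_iff_eq]
    apply Int.cast_injective (α := ℂ)
    push_cast
    have n0 : (d 0 : ℂ) ≠ 0 := by exact_mod_cast hd0 0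
    have n1 : (d 1 : ℂ) ≠ 0 := by exact_mod_cast hd0 1
    have n2 : (d 2 : ℂ) ≠ 0 := by exact_mod_cast hd0 2
    have n3 : (d 3 : ℂ) ≠ 0 := by exact_mod_cast hd0 3
    have nf : (f : ℂ) ≠ 0 := by exact_mod_cast hf0
    field_simp at hce'
    linear_combination hce'
  -- orthogonality
  have hnc : ¬ IsConj z (1 : G) := fun hc => by
    have := isConj_one_left.1 hc
    rw [this, orderOf_one] at hz
    norm_num at hz
  have S1 : ∑ χ : Cfsg.IrrCharacter G, dg χ ^ 2 = 95040 := by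
    have := sum_sq_degree (G := G)
    rw [Finset.sum_congr rfl fun (χ : Cfsg.IrrCharacter G) _ => show (χ : G → ℂ) 1 ^ 2 = ((dg χ ^ 2 : ℤ) : ℂ) by
      rw [hdg]; push_cast; rfl, hG.2] at this
    exact_mod_cast this
  have S2 : ∑ χ : Cfsg.IrrCharacter G, dg χ * v χ = 0 := by
    have := second_orthogonality_not_isConj hnc
    rw [Finset.sum_congr rfl fun (χ : Cfsg.IrrCharacter G) _ => show (χ : G → ℂ) z * (starRingEnd ℂ) ((χ : G → ℂ) 1) =
      ((dg χ * v χ : ℤ) : ℂ) by rw [hdg, hv, conj_int]; push_cast; ring] at this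
    exact_mod_cast this
  have S3 : ∑ χ : Cfsg.IrrCharacter G, v χ ^ 2 = (h : ℤ) := by
    have := second_orthogonality_self z
    rw [Finset.sum_congr rfl fun (χ : Cfsg.IrrCharacter G) _ => show (χ : G → ℂ) z * (starRingEnd ℂ) ((χ : G → ℂ) z) =
      ((v χ ^ 2 : ℤ) : ℂ) by rw [hv, conj_int]; push_cast; ring] at this
    exact_mod_cast this
  rw [B.split, Fin.sum_univ_four, hdT, hdc, hdc, hdc, hdc, hdθ, hdθ'] at S1
  rw [B.split, Fin.sum_univ_four, hdT, hvT, hdc, hdc, hdc, hdc, hdθ, hdθ', hvθ'] at S2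
  rw [B.split, Fin.sum_univ_four, hvT, hvθ'] at S3
  have hCS := Finset.sum_mul_sq_le_sq_mul_sq B.rest dg v
  have hRd : 0 ≤ ∑ χ ∈ B.rest, dg χ ^ 2 := Finset.sum_nonneg fun χ _ => sq_nonneg _
  have hRv : 0 ≤ ∑ χ ∈ B.rest, v χ ^ 2 := Finset.sum_nonneg fun χ _ => sq_nonneg _
  have hmul := card_mul_index hG (Subgroup.centralizer ({z} : Set G))
  rw [← hh] at hmul
  have hidx : (Subgroup.centralizer ({z} : Set G)).index = 95040 / h := by
    rw [← hmul, Nat.mul_div_cancel_left _ Nat.card_pos]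
  have hdiv : ∀ i, (((95040 / h : ℕ) : ℤ) * a i) % (d i : ℤ) = 0 := fun i =>
    Int.emod_eq_zero_of_dvd (hidx ▸ degree_dvd_index_mul (B.c i) (hd i) (hd0 i) (hv _))
  have hdive : (((95040 / h : ℕ) : ℤ) * e) % (f : ℤ) = 0 :=
    Int.emod_eq_zero_of_dvd (hidx ▸ degree_dvd_index_mul B.θ hf hf0 (hv _))
  have hokH : Search.okH (d 0) (d 1) (d 2) (d 3) f (a 0) (a 1) (a 2) (a 3) e h = true := by
    simp only [Search.okH, Bool.and_eq_true, decide_eq_true_eq, beq_iff_eq]
    refine ⟨⟨⟨⟨⟨⟨?_, hdiv 0⟩, hdiv 1⟩, hdiv 2⟩, hdiv 3⟩, hdive⟩, ?_⟩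
    · simp only [ha, he]; linarith
    · calc (1 + (d 0 : ℤ) * a 0 + d 1 * a 1 + d 2 * a 2 + d 3 * a 3 + 2 * (f * e)) ^ 2
          = (∑ χ ∈ B.rest, dg χ * v χ) ^ 2 := by
            have : 1 + (d 0 : ℤ) * a 0 + d 1 * a 1 + d 2 * a 2 + d 3 * a 3 + 2 * (f * e) =
                -(∑ χ ∈ B.rest, dg χ * v χ) := by simp only [ha, he]; linarith
            rw [this, neg_sq]
        _ ≤ (∑ χ ∈ B.rest, dg χ ^ 2) * ∑ χ ∈ B.rest, v χ ^ 2 := hCS
        _ = _ := by
            have h1 : ∑ χ ∈ B.rest, dg χ ^ 2 = (95040 : ℤ) - 1 - (d 0 : ℤ) ^ 2 - (d 1 : ℤ) ^ 2 -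
                (d 2 : ℤ) ^ 2 - (d 3 : ℤ) ^ 2 - 2 * (f : ℤ) ^ 2 := by linarith
            have h2 : ∑ χ ∈ B.rest, v χ ^ 2 = (h : ℤ) -
                (1 + a 0 ^ 2 + a 1 ^ 2 + a 2 ^ 2 + a 3 ^ 2 + 2 * e ^ 2) := by
              simp only [ha, he]; linarith
            rw [h1, h2]
  refine ⟨a, e, fun i => hv _, hv _, hθ', ?_, hokH, ha3, hok, hoke⟩
  simp only [Search.good, Bool.and_eq_true, List.any_eq_true, ← ha3]
  exact ⟨hok 3, heqn, h, centralizer_mem_hs hG hz hk, hokH⟩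

theorem mem_dom {k : Bool} {d : ℕ} {a : ℤ} (hok : Search.ok k d a = true) (h : a.natAbs ≤ 65) :
    a ∈ Search.dom k d := by
  simp only [Search.dom, List.mem_filter, List.mem_map, List.mem_range]
  exact ⟨⟨(a + 65).toNat, by omega, by omega⟩, hok⟩

theorem allCols_spec {k : Bool} {d0 d1 d2 d3 f : ℕ} {s : ℤ}
    {P : ℤ → ℤ → ℤ → ℤ → ℤ → ℕ → Bool}
    (hc : Search.allCols k d0 d1 d2 d3 f s P = true) {a0 a1 a2 a3 e : ℤ} {h : ℕ}
    (hh : h ∈ Search.hs k)
    (hgood : Search.good k d0 d1 d2 d3 f s a0 a1 a2 e = true)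
    (ha3 : a3 = Search.a3of d0 d1 d2 d3 s a0 a1 a2 e)
    (hH : Search.okH d0 d1 d2 d3 f a0 a1 a2 a3 e h = true)
    (o0 : Search.ok k d0 a0 = true) (o1 : Search.ok k d1 a1 = true) (o2 : Search.ok k d2 a2 = true)
    (oe : Search.ok k f e = true) : P a0 a1 a2 a3 e h = true := by
  have hb : 1 + a0 ^ 2 + a1 ^ 2 + a2 ^ 2 + a3 ^ 2 + 2 * e ^ 2 ≤ (h : ℤ) := by
    simp only [Search.okH, Bool.and_eq_true, decide_eq_true_eq] at hH
    exact hH.1.1.1.1.1.1
  have hle : (h : ℤ) ≤ 4320 := by exact_mod_cast (le_of_mem_hs k h hh).1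
  have bd : ∀ a : ℤ, a ^ 2 ≤ 4319 → a.natAbs ≤ 65 := by
    intro a ha
    by_contra hlt
    have : (66 : ℤ) ^ 2 ≤ a ^ 2 := by
      rw [← sq_abs a]
      exact pow_le_pow_left₀ (by norm_num) (by rw [Int.abs_eq_natAbs]; omega) 2
    norm_num at this
    linarith
  have q0 := sq_nonneg a0
  have q1 := sq_nonneg a1
  have q2 := sq_nonneg a2
  have q3 := sq_nonneg a3
  have qe := sq_nonneg e
  simp only [Search.allCols, List.all_eq_true] at hc
  have := hc e (mem_dom oe (bd e (by linarith))) a0 (mem_dom o0 (bd a0 (by linarith)))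
    a1 (mem_dom o1 (bd a1 (by linarith))) a2 (mem_dom o2 (bd a2 (by linarith)))
  rw [hgood, Bool.not_true, Bool.false_or, List.all_eq_true] at this
  have := this h hh
  rw [← ha3, hH, Bool.not_true, Bool.false_or] at this
  exact this

end Cfsg.Agent.H28.M12
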