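import Cfsg.Prelude.Def_Sporadic
import Cfsg.Agent.CharBasic.Orth

/-!
The data from the principal 11-block of a simple group of order 95040: the degrees and two involution
columns.
-/

set_option autoImplicit false

namespace Cfsg.Agent.H28.M12

/-- degrees of the six nontrivial characters of the block -/
def blockDeg : Fin 6 → ℕ := ![45, 54, 120, 144, 16, 16]

/-- values at elements of order 11 of the four nonexceptional ones -/
def blockSign : Fin 4 → ℤ := ![1, -1, -1, 1]

/-- the characters, with the values of a 2-central involution `u` and of an involution `s`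
centralizing an element `t` of order 5 -/
structure Columns (G : Type*) [Group G] (u s t : G) : Prop where
  u_ord : orderOf u = 2
  s_ord : orderOf s = 2
  t_ord : orderOf t = 5
  comm : Commute s t
  u_card : Nat.card (Subgroup.centralizer ({u} : Set G)) = 192
  s_card : Nat.card (Subgroup.centralizer ({s} : Set G)) = 120 ∨
    Nat.card (Subgroup.centralizer ({s} : Set G)) = 240
  chars : ∃ (c : Fin 6 → Cfsg.IrrCharacter G) (η : ℤ), Function.Injective c ∧ (η = 1 ∨ η = -1) ∧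
    (∀ i, (c i : G → ℂ) 1 = blockDeg i) ∧
    (∀ i, (c i : G → ℂ) u = (![-3, 6, -8, 0, 0, 0] i : ℤ)) ∧
    (∀ i, (c i : G → ℂ) s = (![5, 6, 0, 4 * η, 4 * η, 4 * η] i : ℤ)) ∧
    (∀ x : G, orderOf x = 11 →
      (∀ i : Fin 4, (c i.castSucc.castSucc : G → ℂ) x = blockSign i) ∧
        (c 4 : G → ℂ) x + (c 5 : G → ℂ) x = -1) ∧
    (∀ g : G, ¬ 11 ∣ orderOf g → (c 4 : G → ℂ) g = (c 5 : G → ℂ) g ∧
      (c 4 : G → ℂ) g = 1 + ∑ i : Fin 4, (blockSign i : ℂ) * (c i.castSucc.castSucc : G → ℂ) g) ∧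
    (∀ χ : Cfsg.IrrCharacter G, (∀ i, χ ≠ c i) → (χ : G → ℂ) 1 ≠ 1 →
      (∃ m : ℕ, (χ : G → ℂ) 1 = ((11 * m : ℕ) : ℂ)) ∧ ∀ x : G, orderOf x = 11 → (χ : G → ℂ) x = 0)

end Cfsg.Agent.H28.M12
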