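import Cfsg.Agent.H28.M12.Eleven
import Cfsg.Agent.H36.Sylow21
import Cfsg.Agent.H36.TwoSylow
import Cfsg.Agent.H65.DihedralAltSix

/-!
An element of order five of a simple group of order 95040 commutes with an involution.
-/

set_option autoImplicit false

namespace Cfsg.Agent.H28.M12

open MulAction Subgroup

local instance fact_five : Fact (Nat.Prime 5) := ⟨by norm_num⟩
local instance fact_three : Fact (Nat.Prime 3) := ⟨Nat.prime_three⟩
local instance fact_two : Fact (Nat.Prime 2) := ⟨Nat.prime_two⟩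
local instance fact_eleven5 : Fact (Nat.Prime 11) := ⟨by norm_num⟩

variable {G : Type*} [Group G] [Finite G]

/-- fixed points of conjugation by an element of prime order -/
theorem card_fixed_modEq {p : ℕ} [Fact p.Prime] {t : G} (ht : orderOf t = p) {Q : Subgroup G}
    (hQ : t ∈ Subgroup.normalizer (Q : Set G)) :
    Nat.card Q ≡ Nat.card ↥(Q ⊓ Subgroup.centralizer ({t} : Set G)) [MOD p] := by
  have hn : ∀ g ∈ Subgroup.zpowers t, ∀ q ∈ Q, g * q * g⁻¹ ∈ Q := fun g hg q hq =>
    (Subgroup.mem_normalizer_iff.1 (Subgroup.zpowers_le.2 hQ hg) q).1 hq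
  letI : MulAction (Subgroup.zpowers t) Q :=
    { smul := fun g q => ⟨(g : G) * q * (g : G)⁻¹, hn g g.2 q q.2⟩
      one_smul := fun q => Subtype.ext (show (1 : G) * q * (1 : G)⁻¹ = q by simp)
      mul_smul := fun a b q => Subtype.ext
        (show (a : G) * b * q * ((a : G) * b)⁻¹ = a * (b * q * (b : G)⁻¹) * (a : G)⁻¹ by group) }
  have hp : IsPGroup p (Subgroup.zpowers t) :=
    IsPGroup.of_card (n := 1) (by rw [Nat.card_zpowers, ht, pow_one])
  refine (hp.card_modEq_card_fixedPoints Q).trans (congrArg (· % p) ?_)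
  refine Nat.card_congr
    { toFun := fun q => ⟨q.1.1, q.1.2, Subgroup.mem_centralizer_singleton_iff.2 ?_⟩
      invFun := fun q => ⟨⟨q.1, q.2.1⟩, fun g => Subtype.ext ?_⟩
      left_inv := fun q => rfl
      right_inv := fun q => rfl }
  · have h := congrArg Subtype.val (q.2 ⟨t, Subgroup.mem_zpowers t⟩)
    change t * q.1.1 * t⁻¹ = q.1.1 at h
    exact (mul_inv_eq_iff_eq_mul.1 h).symm
  · obtain ⟨i, hi⟩ := Subgroup.mem_zpowers_iff.1 g.2
    show (g : G) * q.1 * (g : G)⁻¹ = q.1
    have hc : Commute t q.1 := (Subgroup.mem_centralizer_singleton_iff.1 q.2.2).symm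
    rw [← hi, (hc.zpow_left i).eq, mul_inv_cancel_right]

theorem centralizes_twentyseven {t : G} (ht : orderOf t = 5) {Q : Subgroup G}
    (hQ : Nat.card Q = 27) (hn : t ∈ Subgroup.normalizer (Q : Set G)) :
    Q ≤ Subgroup.centralizer ({t} : Set G) := by
  have h := card_fixed_modEq ht hn
  rw [hQ] at h
  have hd : Nat.card ↥(Q ⊓ Subgroup.centralizer ({t} : Set G)) ∈ Nat.divisors 27 :=
    Nat.mem_divisors.2 ⟨hQ ▸ Subgroup.card_dvd_of_le inf_le_left, by norm_num⟩
  rw [show Nat.divisors 27 = {1, 3, 9, 27} by decide +kernel] at hd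
  simp only [Finset.mem_insert, Finset.mem_singleton] at hd
  have h27 : Nat.card ↥(Q ⊓ Subgroup.centralizer ({t} : Set G)) = 27 := by
    rcases hd with e | e | e | e <;> rw [e] at h <;> first | exact e | exact absurd h (by decide)
  exact inf_eq_left.1 (Subgroup.eq_of_le_of_card_ge inf_le_left (by rw [h27, hQ]))

theorem not_dvd_eleven (hG : Cfsg.IsM12 G) {A : Subgroup G} (hA : ¬ 11 ∣ Nat.card A)
    (hA1 : Nat.card A % 11 ≠ 1) : ¬ 11 ∣ Nat.card (Subgroup.normalizer (A : Set G)) := by
  intro h
  obtain ⟨x, hx⟩ := exists_prime_orderOf_dvd_card' 11 h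
  rw [← Subgroup.orderOf_coe] at hx
  have hfix := card_fixed_modEq hx x.2
  obtain ⟨P, hP⟩ := (IsPGroup.of_card (p := 11) (n := 1) (G := Subgroup.zpowers (x : G))
    (by rw [Nat.card_zpowers, hx, pow_one])).exists_le_sylow
  have hz : Subgroup.zpowers (x : G) = (P : Subgroup G) :=
    Subgroup.eq_of_le_of_card_ge hP (by rw [card_eleven hG P, Nat.card_zpowers, hx])
  have hC : Subgroup.centralizer ({(x : G)} : Set G) = (P : Subgroup G) := by
    rw [← H69.M11.centralizer_eq_of_zpowers hz]
    exact centralizer_eleven hG P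
  rw [hC] at hfix
  have hone : Nat.card ↥(A ⊓ (P : Subgroup G)) = 1 := by
    have h2 : Nat.card ↥(A ⊓ (P : Subgroup G)) ∣ 11 :=
      (Subgroup.card_dvd_of_le inf_le_right).trans (dvd_of_eq (card_eleven hG P))
    refine ((Nat.dvd_prime (by norm_num)).1 h2).resolve_right fun e => hA ?_
    rw [← e]
    exact Subgroup.card_dvd_of_le inf_le_left
  rw [hone, Nat.ModEq] at hfix
  exact hA1 hfix

theorem not_dvd_centralizer_five (hG : Cfsg.IsM12 G) {t : G} (ht : orderOf t = 5) :
    ¬ 11 ∣ Nat.card (Subgroup.centralizer ({t} : Set G)) := by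
  intro h
  obtain ⟨x, hx⟩ := exists_prime_orderOf_dvd_card' 11 h
  rw [← Subgroup.orderOf_coe] at hx
  obtain ⟨P, hP⟩ := (IsPGroup.of_card (p := 11) (n := 1) (G := Subgroup.zpowers (x : G))
    (by rw [Nat.card_zpowers, hx, pow_one])).exists_le_sylow
  have hz : Subgroup.zpowers (x : G) = (P : Subgroup G) :=
    Subgroup.eq_of_le_of_card_ge hP (by rw [card_eleven hG P, Nat.card_zpowers, hx])
  have ht' : t ∈ Subgroup.centralizer ((P : Subgroup G) : Set G) := by
    rw [H69.M11.centralizer_eq_of_zpowers hz]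
    exact Subgroup.mem_centralizer_singleton_iff.2
      (Subgroup.mem_centralizer_singleton_iff.1 x.2).symm
  rw [centralizer_eleven hG P] at ht'
  have := card_eleven hG P ▸ Subgroup.orderOf_dvd_natCard _ ht'
  rw [ht] at this
  norm_num at this

theorem card_sylow_three (hG : Cfsg.IsM12 G) (R : Sylow 3 G) : Nat.card (R : Subgroup G) = 27 := by
  have h := H36.card_sylow_eq (a := 3) (m := 3520) hG.2 R (by norm_num) (by norm_num)
  simpa using h

theorem card_sylow_five (hG : Cfsg.IsM12 G) (T : Sylow 5 G) : Nat.card (T : Subgroup G) = 5 :=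
  card_sylow_prime hG (by norm_num) (by norm_num) T

/-- the possible orders when the centralizer has odd order -/
theorem odd_cases (hG : Cfsg.IsM12 G) (T : Sylow 5 G)
    (hodd : ¬ 2 ∣ Nat.card (Subgroup.centralizer ((T : Subgroup G) : Set G))) :
    (Nat.card (Subgroup.centralizer ((T : Subgroup G) : Set G)) = 45 ∧
        Nat.card (Subgroup.normalizer ((T : Subgroup G) : Set G)) = 90) ∨
      (Nat.card (Subgroup.centralizer ((T : Subgroup G) : Set G)) = 135 ∧
        Nat.card (Subgroup.normalizer ((T : Subgroup G) : Set G)) = 540) := by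
  haveI := hG.1
  set C := Subgroup.centralizer ((T : Subgroup G) : Set G) with hC
  set N := Subgroup.normalizer ((T : Subgroup G) : Set G) with hN
  have hmul := card_sylow_mul hG T
  have hce : Nat.card C * C.relIndex N = Nat.card N := relIndex_mul (T : Subgroup G)
  have hT := card_sylow_five hG T
  obtain ⟨t, ht⟩ := exists_prime_orderOf_dvd_card' 5 (dvd_of_eq hT.symm)
  rw [← Subgroup.orderOf_coe] at ht
  have hz : Subgroup.zpowers (t : G) = (T : Subgroup G) :=
    Subgroup.eq_of_le_of_card_ge (Subgroup.zpowers_le.2 t.2) (by rw [hT, Nat.card_zpowers, ht])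
  have hCt : C = Subgroup.centralizer ({(t : G)} : Set G) :=
    H69.M11.centralizer_eq_of_zpowers hz
  cases nonempty_fintype G
  have he : C.relIndex N ∣ 5 - 1 := H86.Abelian.relIndex_dvd T hT
  have he1 : C.relIndex N ≠ 1 := fun h =>
    H69.M11.not_normalizer_le_centralizer (not_comm hG) (by rw [hG.2]; norm_num) T
      (Subgroup.relIndex_eq_one.1 h)
  have hd : Nat.card C ∣ 135 := by
    have h1 : Nat.card C ∣ 95040 := hG.2 ▸ Subgroup.card_subgroup_dvd_card C
    have h11 : Nat.Coprime (Nat.card C) (64 * 11) := by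
      rw [show (64 : ℕ) = 2 ^ 6 by norm_num]
      refine Nat.Coprime.mul_right (Nat.Coprime.pow_right 6 ?_) ?_
      · exact ((Nat.Prime.coprime_iff_not_dvd Nat.prime_two).2 hodd).symm
      · refine ((Nat.Prime.coprime_iff_not_dvd (by norm_num)).2 ?_).symm
        rw [hCt]
        exact not_dvd_centralizer_five hG ht
    exact h11.dvd_of_dvd_mul_left (show Nat.card C ∣ 64 * 11 * 135 by simpa using h1)
  have h5 : 5 ∣ Nat.card C := by
    have hmem : (t : G) ∈ C := hCt ▸ Subgroup.mem_centralizer_singleton_iff.2 rfl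
    exact ht ▸ Subgroup.orderOf_dvd_natCard C hmem
  have hmem : Nat.card C ∈ Nat.divisors 135 := Nat.mem_divisors.2 ⟨hd, by norm_num⟩
  rw [show Nat.divisors 135 = {1, 3, 5, 9, 15, 27, 45, 135} by decide +kernel] at hmem
  simp only [Finset.mem_insert, Finset.mem_singleton] at hmem
  have hmod := card_sylow_modEq_one 5 G
  rw [Nat.ModEq] at hmod
  have hem : C.relIndex N ∈ Nat.divisors 4 := Nat.mem_divisors.2 ⟨he, by norm_num⟩
  rw [show Nat.divisors 4 = {1, 2, 4} by decide +kernel] at hem
  simp only [Finset.mem_insert, Finset.mem_singleton] at hem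
  rcases hem with e | e | e
  · exact absurd e he1
  all_goals
    rcases hmem with h | h | h | h | h | h | h | h <;> rw [e, h] at hce <;> rw [← hce] at hmul <;>
      omega

/-- An element of order five commutes with an involution. -/
theorem exists_commuting_involution (hG : Cfsg.IsM12 G) :
    ∃ s t : G, orderOf s = 2 ∧ orderOf t = 5 ∧ Commute s t := by
  classical
  by_contra hno
  push Not at hno
  haveI := hG.1
  cases nonempty_fintype G
  obtain ⟨T⟩ := (inferInstance : Nonempty (Sylow 5 G))
  have hT := card_sylow_five hG T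
  obtain ⟨t, ht⟩ := exists_prime_orderOf_dvd_card' 5 (dvd_of_eq hT.symm)
  rw [← Subgroup.orderOf_coe] at ht
  have hz : Subgroup.zpowers (t : G) = (T : Subgroup G) :=
    Subgroup.eq_of_le_of_card_ge (Subgroup.zpowers_le.2 t.2) (by rw [hT, Nat.card_zpowers, ht])
  set C := Subgroup.centralizer ((T : Subgroup G) : Set G) with hC
  set N := Subgroup.normalizer ((T : Subgroup G) : Set G) with hN
  have hCt : C = Subgroup.centralizer ({(t : G)} : Set G) := H69.M11.centralizer_eq_of_zpowers hz
  have hodd : ¬ 2 ∣ Nat.card C := by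
    intro h
    obtain ⟨s, hs⟩ := exists_prime_orderOf_dvd_card' 2 h
    exact hno (s : G) t (by rw [Subgroup.orderOf_coe, hs]) ht
      ((Subgroup.mem_centralizer_singleton_iff.1 (hCt ▸ s.2 : (s : G) ∈ _)))
  -- all centralizers of elements of order 5 have the same order
  have hall : ∀ g : G, orderOf g = 5 → Nat.card (Subgroup.centralizer ({g} : Set G)) = Nat.card C := by
    intro g hg
    obtain ⟨T', hT'⟩ := (IsPGroup.of_card (p := 5) (n := 1) (G := Subgroup.zpowers g)
      (by rw [Nat.card_zpowers, hg, pow_one])).exists_le_sylow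
    have hz' : Subgroup.zpowers g = (T' : Subgroup G) :=
      Subgroup.eq_of_le_of_card_ge hT' (by rw [card_sylow_five hG T', Nat.card_zpowers, hg])
    rw [← H69.M11.centralizer_eq_of_zpowers hz']
    obtain ⟨h, rfl⟩ := MulAction.exists_smul_eq G T T'
    rw [hC, Sylow.coe_subgroup_smul]
    refine (Nat.card_congr ((MulAut.conj h).toEquiv.subtypeEquiv fun c => ?_)).symm
    constructor
    · intro hc q hq
      rw [SetLike.mem_coe, Subgroup.mem_smul_pointwise_iff_exists] at hq
      obtain ⟨r, hr, rfl⟩ := hq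
      show MulAut.conj h r * MulAut.conj h c = MulAut.conj h c * MulAut.conj h r
      rw [← map_mul, ← map_mul, hc r hr]
    · intro hc q hq
      have := hc (MulAut.conj h q) (Subgroup.smul_mem_pointwise_smul q (MulAut.conj h) _ hq)
      change MulAut.conj h q * MulAut.conj h c = MulAut.conj h c * MulAut.conj h q at this
      rw [← map_mul, ← map_mul] at this
      exact (MulAut.conj h).injective this
  have hCN : C ≤ N := Subgroup.centralizer_le_normalizer _
  have hnormC : ∀ n ∈ N, ∀ c ∈ C, n * c * n⁻¹ ∈ C := by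
    intro n hn c hc r hr
    have hr' : n⁻¹ * r * n ∈ (T : Subgroup G) := by
      have := (Subgroup.mem_normalizer_iff.1 (inv_mem hn) r).1 hr
      rwa [inv_inv] at this
    calc r * (n * c * n⁻¹) = n * ((n⁻¹ * r * n) * c) * n⁻¹ := by group
      _ = n * (c * (n⁻¹ * r * n)) * n⁻¹ := by rw [hc _ hr']
      _ = n * c * n⁻¹ * r := by group
  -- the Sylow 3-subgroup of `C`
  obtain ⟨A₀⟩ := (inferInstance : Nonempty (Sylow 3 C))
  have hA₀ : Nat.card (Sylow 3 C) = 1 ∧
      (Nat.card C = 45 → Nat.card (A₀ : Subgroup C) = 9) ∧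
      (Nat.card C = 135 → Nat.card (A₀ : Subgroup C) = 27) := by
    refine ⟨?_, fun h => ?_, fun h => ?_⟩
    · have h1 := A₀.card_eq_index_normalizer
      have h2 := Subgroup.index_dvd_of_le (Subgroup.le_normalizer (H := (A₀ : Subgroup C)))
      have h3 := (A₀ : Subgroup C).card_mul_index
      have hmod := card_sylow_modEq_one 3 C
      have h4 : Nat.card (Sylow 3 C) ∣ 5 := by
        refine (dvd_of_eq h1).trans (h2.trans (dvd_of_eq ?_))
        rcases odd_cases hG T hodd with ⟨hc, -⟩ | ⟨hc, -⟩ <;> rw [hc] at h3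
        · have h9 := H36.card_sylow_eq (p := 3) (a := 2) (m := 5) hc A₀ (by norm_num) (by norm_num)
          rw [show Nat.card (A₀ : Subgroup C) = 3 ^ 2 from h9] at h3
          omega
        · have h9 := H36.card_sylow_eq (p := 3) (a := 3) (m := 5) hc A₀ (by norm_num) (by norm_num)
          rw [show Nat.card (A₀ : Subgroup C) = 3 ^ 3 from h9] at h3
          omega
      rcases (Nat.dvd_prime (by norm_num)).1 h4 with e | e
      · exact e
      · rw [e] at hmod; exact absurd hmod (by decide)
    · simpa using H36.card_sylow_eq (p := 3) (a := 2) (m := 5) h A₀ (by norm_num) (by norm_num)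
    · simpa using H36.card_sylow_eq (p := 3) (a := 3) (m := 5) h A₀ (by norm_num) (by norm_num)
  obtain ⟨hA1, hA45, hA135⟩ := hA₀
  set A : Subgroup G := (A₀ : Subgroup C).map C.subtype with hA
  have hAcard : Nat.card A = Nat.card (A₀ : Subgroup C) :=
    Subgroup.card_map_of_injective (Subgroup.subtype_injective _)
  have hAC : A ≤ C := Subgroup.map_subtype_le _
  have hAmem : ∀ g, g ∈ A ↔ ∃ hg : g ∈ C, (⟨g, hg⟩ : C) ∈ (A₀ : Subgroup C) := by
    intro g
    rw [hA, Subgroup.mem_map]
    constructor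
    · rintro ⟨c, hc, rfl⟩; exact ⟨c.2, hc⟩
    · rintro ⟨hg, h⟩; exact ⟨⟨g, hg⟩, h, rfl⟩
  have hNA : N ≤ Subgroup.normalizer (A : Set G) := by
    haveI := (Nat.card_eq_one_iff_unique.1 hA1).1
    have hmem : ∀ n ∈ N, ∀ g ∈ A, n * g * n⁻¹ ∈ A := by
      intro n hn g hg
      obtain ⟨hgC, hgA⟩ := (hAmem g).1 hg
      have hgC' := hnormC n hn g hgC
      have hp : IsPGroup 3 (Subgroup.zpowers (⟨_, hgC'⟩ : C)) := by
        obtain ⟨k, hk⟩ := A₀.2 ⟨_, hgA⟩
        refine IsPGroup.iff_orderOf.mpr fun y => ?_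
        have hd : orderOf (y : C) ∣ 3 ^ k := by
          obtain ⟨i, hi⟩ := Subgroup.mem_zpowers_iff.1 y.2
          refine orderOf_dvd_of_pow_eq_one ?_
          have h3 : (⟨_, hgC'⟩ : C) ^ 3 ^ k = 1 := by
            apply Subtype.ext
            show (n * g * n⁻¹) ^ 3 ^ k = 1
            have hk' : g ^ 3 ^ k = 1 := by
              simpa using congrArg (fun z : (A₀ : Subgroup C) => ((z : C) : G)) hk
            rw [conj_pow, hk']; simp
          rw [← hi, ← zpow_natCast, ← zpow_mul, mul_comm, zpow_mul, zpow_natCast, h3, one_zpow]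
        rw [Subgroup.orderOf_coe] at hd
        exact ((Nat.dvd_prime_pow Nat.prime_three).1 hd).imp fun j hj => hj.2
      obtain ⟨B, hB⟩ := hp.exists_le_sylow
      rw [Subsingleton.elim B A₀] at hB
      exact (hAmem _).2 ⟨hgC', hB (Subgroup.mem_zpowers _)⟩
    intro n hn
    refine Subgroup.mem_normalizer_iff.2 fun g => ⟨hmem n hn g, fun h => ?_⟩
    simpa [mul_assoc] using hmem n⁻¹ (inv_mem hn) _ h
  rcases odd_cases hG T hodd with ⟨hc, hn⟩ | ⟨hc, hn⟩
  rotate_left
  · -- a Sylow 3-subgroup centralised by `t`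
    have hA27 : Nat.card A = 27 := hAcard.trans (hA135 hc)
    obtain ⟨R, hR⟩ : ∃ R : Sylow 3 G, (R : Subgroup G) = A := by
      obtain ⟨R, hR⟩ := (IsPGroup.of_card (p := 3) (n := 3) (G := A) (by rw [hA27]; norm_num)).exists_le_sylow
      exact ⟨R, (Subgroup.eq_of_le_of_card_ge hR (by rw [card_sylow_three hG, hA27])).symm⟩
    have hmul := card_sylow_mul hG R
    rw [hR] at hmul
    have h540 : 540 ∣ Nat.card (Subgroup.normalizer (A : Set G)) := hn ▸ Subgroup.card_dvd_of_le hNA
    obtain ⟨m, hm⟩ := h540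
    have h11 := not_dvd_eleven hG (A := A) (by rw [hA27]; norm_num) (by rw [hA27]; norm_num)
    have hmod := card_sylow_modEq_one 3 G
    set n3 := Nat.card (Sylow 3 G) with hn3
    rw [hm] at hmul h11
    have h176 : n3 * m = 176 := by
      have : n3 * m * 540 = 176 * 540 := by rw [mul_assoc, mul_comm m]; exact hmul
      exact Nat.eq_of_mul_eq_mul_right (by norm_num) this
    have hn3d : n3 ∈ Nat.divisors 176 := Nat.mem_divisors.2 ⟨Dvd.intro _ h176, by norm_num⟩
    rw [show Nat.divisors 176 = {1, 2, 4, 8, 11, 16, 22, 44, 88, 176} by decide +kernel] at hn3d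
    simp only [Finset.mem_insert, Finset.mem_singleton] at hn3d
    -- `t` fixes only one Sylow 3-subgroup
    have hfix := (IsPGroup.of_card (p := 5) (n := 1) (G := Subgroup.zpowers (t : G))
      (by rw [Nat.card_zpowers, ht, pow_one])).card_modEq_card_fixedPoints (Sylow 3 G)
    have hone : Nat.card (MulAction.fixedPoints (Subgroup.zpowers (t : G)) (Sylow 3 G)) = 1 := by
      rw [Nat.card_eq_one_iff_unique]
      refine ⟨⟨fun Q Q' => Subtype.ext ?_⟩, ⟨R, fun g => ?_⟩⟩
      · have key : ∀ Q : MulAction.fixedPoints (Subgroup.zpowers (t : G)) (Sylow 3 G),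
            (Q.1 : Subgroup G) = A := by
          intro Q
          have hQn : (t : G) ∈ Subgroup.normalizer ((Q.1 : Subgroup G) : Set G) :=
            Sylow.smul_eq_iff_mem_normalizer.1 (Q.2 ⟨t, Subgroup.mem_zpowers _⟩)
          have hle := centralizes_twentyseven ht (card_sylow_three hG Q.1) hQn
          rw [← hCt] at hle
          have hp : IsPGroup 3 ((Q.1 : Subgroup G).subgroupOf C) :=
            Q.1.2.comap_of_injective C.subtype C.subtype_injective
          obtain ⟨B, hB⟩ := hp.exists_le_sylow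
          haveI := (Nat.card_eq_one_iff_unique.1 hA1).1
          rw [Subsingleton.elim B A₀] at hB
          refine Subgroup.eq_of_le_of_card_ge (fun g hg => ?_) (by rw [card_sylow_three hG, hA27])
          exact (hAmem g).2 ⟨hle hg, hB (Subgroup.mem_subgroupOf.2 hg)⟩
        exact Sylow.ext ((key Q).trans (key Q').symm)
      · refine Sylow.smul_eq_iff_mem_normalizer.2 ?_
        show (g : G) ∈ Subgroup.normalizer ((R : Subgroup G) : Set G)
        rw [hR]
        refine hNA (Subgroup.le_normalizer ?_)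
        exact hz.le g.2
    rw [← hn3, hone, Nat.ModEq] at hfix
    rw [Nat.ModEq] at hmod
    rcases hn3d with e | e | e | e | e | e | e | e | e | e <;> rw [e] at h176 hmod hfix <;> omega
  -- the centralizer of order 45
  have hA9 : Nat.card A = 9 := hAcard.trans (hA45 hc)
  set M := Subgroup.normalizer (A : Set G) with hM
  have h11 := not_dvd_eleven hG (A := A) (by rw [hA9]; norm_num) (by rw [hA9]; norm_num)
  rw [← hM] at h11
  obtain ⟨R, hR⟩ := (IsPGroup.of_card (p := 3) (n := 2) (G := A) (by rw [hA9]; norm_num)).exists_le_sylow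
  have hR27 := card_sylow_three hG R
  have hRM : (R : Subgroup G) ≤ M := by
    haveI hnA : (A.subgroupOf (R : Subgroup G)).Normal := by
      refine Subgroup.normal_of_index_eq_minFac_card ?_
      have h1 := (A.subgroupOf (R : Subgroup G)).card_mul_index
      rw [Nat.card_congr (Subgroup.subgroupOfEquivOfLe hR).toEquiv, hA9, hR27] at h1
      rw [hR27, show Nat.minFac 27 = 3 by norm_num]
      omega
    exact (Subgroup.normal_subgroupOf_iff_le_normalizer hR).1 hnA
  have hTM : (T : Subgroup G) ≤ M := Subgroup.le_normalizer.trans hNA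
  have hMtop : M ≠ ⊤ := fun h => h11 (by rw [h, Subgroup.card_top, hG.2]; norm_num)
  have hMcard : Nat.card M = 540 := by
    have h90 : 90 ∣ Nat.card M := hn ▸ Subgroup.card_dvd_of_le hNA
    have h27 : 27 ∣ Nat.card M := hR27 ▸ Subgroup.card_dvd_of_le hRM
    have hidx := card_mul_index hG M
    have h12 := twelve_le_index hG hMtop
    let TM : Sylow 5 M := T.subtype hTM
    have hsyl : Nat.card (Sylow 5 M) * 90 = Nat.card M := by
      rw [TM.card_eq_index_normalizer]
      have h1 : Subgroup.normalizer ((TM : Subgroup M) : Set M) = N.subgroupOf M :=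
        (Subgroup.subgroupOf_normalizer_eq hTM).symm
      have h2 : Nat.card (N.subgroupOf M) = 90 :=
        (Nat.card_congr (Subgroup.subgroupOfEquivOfLe hNA).toEquiv).trans hn
      have h3 := (N.subgroupOf M).index_mul_card
      rw [h2] at h3
      exact (congrArg (fun S : Subgroup M => S.index * 90) h1).trans h3
    have hmod := card_sylow_modEq_one 5 M
    set k := Nat.card (Sylow 5 M)
    rw [Nat.ModEq] at hmod
    have hk : k ∣ 1056 := by
      refine ⟨M.index, ?_⟩
      have : k * M.index * 90 = 1056 * 90 := by rw [mul_assoc, mul_comm M.index, ← mul_assoc, hsyl]; exact hidx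
      exact (Nat.eq_of_mul_eq_mul_right (by norm_num) this).symm
    have hmem : k ∈ (Nat.divisors 1056).filter (fun k => k % 5 = 1) :=
      Finset.mem_filter.2 ⟨Nat.mem_divisors.2 ⟨hk, by norm_num⟩, hmod⟩
    rw [show (Nat.divisors 1056).filter (fun k => k % 5 = 1) = {1, 6, 11, 16, 66, 96, 176, 1056} by
      decide +kernel] at hmem
    simp only [Finset.mem_insert, Finset.mem_singleton] at hmem
    rcases hmem with e | e | e | e | e | e | e | e <;> rw [e] at hsyl <;> rw [← hsyl] at h27 h11 hidx <;>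
      first | exact hsyl.symm | omega
  have hTC : (T : Subgroup G) ≤ C := by
    intro q hq r hr
    haveI : IsCyclic (T : Subgroup G) := isCyclic_of_prime_card hT
    exact congrArg Subtype.val
      ((IsCyclic.commGroup (α := (T : Subgroup G))).mul_comm ⟨r, hr⟩ ⟨q, hq⟩)
  have hCA : C ≤ Subgroup.centralizer (A : Set G) := by
    intro c hc' a ha
    obtain ⟨haC, haA⟩ := (hAmem a).1 ha
    -- the centralizer is the product of `T` and an abelian group
    haveI hTn : ((T : Subgroup G).subgroupOf C).Normal :=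
      ⟨fun q hq g => by
        rw [Subgroup.mem_subgroupOf] at hq ⊢
        have := g.2 (q : G) hq
        show (g : G) * q * (g : G)⁻¹ ∈ (T : Subgroup G)
        rw [← this, mul_inv_cancel_right]; exact hq⟩
    haveI hA₀n : (A₀ : Subgroup C).Normal := by
      haveI := (Nat.card_eq_one_iff_unique.1 hA1).1
      exact Sylow.normal_of_subsingleton A₀
    haveI hA₀c : IsMulCommutative (A₀ : Subgroup C) :=
      IsPGroup.isMulCommutative_of_card_eq_prime_sq (p := 3) (by rw [hA45 hc]; norm_num)
    have hsup : ((T : Subgroup G).subgroupOf C) ⊔ (A₀ : Subgroup C) = ⊤ := by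
      refine Subgroup.eq_top_of_card_eq _ (Nat.dvd_antisymm (Subgroup.card_subgroup_dvd_card _) ?_)
      rw [hc, show (45 : ℕ) = 5 * 9 by norm_num]
      refine Nat.Coprime.mul_dvd_of_dvd_of_dvd (by norm_num) ?_ ?_
      · refine Eq.dvd ?_ |>.trans (Subgroup.card_dvd_of_le le_sup_left)
        rw [Nat.card_congr (Subgroup.subgroupOfEquivOfLe hTC).toEquiv, hT]
      · exact (dvd_of_eq (hA45 hc).symm).trans (Subgroup.card_dvd_of_le le_sup_right)
    have hcm : (⟨c, hc'⟩ : C) ∈ ((T : Subgroup G).subgroupOf C) ⊔ (A₀ : Subgroup C) :=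
      hsup ▸ Subgroup.mem_top _
    rw [Subgroup.mem_sup_of_normal_left] at hcm
    obtain ⟨q, hq, b, hb, hqb⟩ := hcm
    have hc2 : c = (q : G) * (b : G) := by
      have := congrArg Subtype.val hqb
      exact this.symm
    have h1 : a * (q : G) = (q : G) * a := (haC (q : G) (Subgroup.mem_subgroupOf.1 hq)).symm
    have h2 : a * (b : G) = (b : G) * a :=
      congrArg (fun z : (A₀ : Subgroup C) => ((z : C) : G))
        (hA₀c.is_comm.comm ⟨⟨a, haC⟩, haA⟩ ⟨b, hb⟩)
    show a * c = c * a
    rw [hc2, ← mul_assoc, h1, mul_assoc, h2, ← mul_assoc]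
  -- all of `M` centralises `A`
  set CA := (Subgroup.centralizer (A : Set G)).subgroupOf M with hCA'
  haveI hCAn : CA.Normal := by
    rw [hCA', ← Subgroup.normalizerMonoidHom_ker]
    exact MonoidHom.normal_ker _
  have hM6 : Nat.card (Sylow 5 M) = 6 := by
    let TM : Sylow 5 M := T.subtype hTM
    have h1 : Subgroup.normalizer ((TM : Subgroup M) : Set M) = N.subgroupOf M :=
      (Subgroup.subgroupOf_normalizer_eq hTM).symm
    have h2 : Nat.card (N.subgroupOf M) = 90 :=
      (Nat.card_congr (Subgroup.subgroupOfEquivOfLe hNA).toEquiv).trans hn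
    have h3 := (N.subgroupOf M).index_mul_card
    rw [h2, hMcard] at h3
    rw [TM.card_eq_index_normalizer]
    refine Nat.eq_of_mul_eq_mul_right (by norm_num : 0 < 90) ?_
    exact (congrArg (fun S : Subgroup M => S.index * 90) h1).trans (h3.trans (by norm_num))
  have hall5 : ∀ Q : Sylow 5 M, (Q : Subgroup M) ≤ CA := by
    intro Q
    let TM : Sylow 5 M := T.subtype hTM
    obtain ⟨g, rfl⟩ := MulAction.exists_smul_eq M TM Q
    rw [Sylow.coe_subgroup_smul]
    intro q hq
    rw [Subgroup.mem_smul_pointwise_iff_exists] at hq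
    obtain ⟨r, hr, rfl⟩ := hq
    exact hCAn.conj_mem r (Subgroup.mem_subgroupOf.2 (hCA (hTC (Subgroup.mem_subgroupOf.1 hr)))) g
  have hCA540 : CA = ⊤ := by
    refine Subgroup.eq_top_of_card_eq _ ?_
    have h5 := H36.card_sylow_eq_of_forall_le (p := 5) CA hall5
    rw [hM6] at h5
    have hdvd : Nat.card CA ∣ 540 := hMcard ▸ Subgroup.card_subgroup_dvd_card _
    have h45 : 45 ∣ Nat.card CA := by
      rw [← hc, ← Nat.card_congr (Subgroup.subgroupOfEquivOfLe (hCN.trans hNA)).toEquiv]
      exact Subgroup.card_dvd_of_le fun g hg =>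
        Subgroup.mem_subgroupOf.2 (hCA (Subgroup.mem_subgroupOf.1 hg))
    obtain ⟨j, hj⟩ := h45
    have hj12 : j ∣ 12 := Nat.dvd_of_mul_dvd_mul_left (by norm_num : 0 < 45) (by rw [← hj]; exact hdvd)
    have hidx : 6 ∣ j := by
      let TM : Sylow 5 M := T.subtype hTM
      let TA : Sylow 5 CA := TM.subtype (hall5 TM)
      have h1 : Subgroup.normalizer ((TM : Subgroup M) : Set M) = N.subgroupOf M :=
        (Subgroup.subgroupOf_normalizer_eq hTM).symm
      have h2 : Subgroup.normalizer ((TA : Subgroup CA) : Set CA) = (N.subgroupOf M).subgroupOf CA :=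
        (Subgroup.subgroupOf_normalizer_eq (hall5 TM)).symm.trans (congrArg (·.subgroupOf CA) h1)
      have hCM : C.subgroupOf M ≤ CA := fun g hg =>
        Subgroup.mem_subgroupOf.2 (hCA (Subgroup.mem_subgroupOf.1 hg))
      have h3 : 45 ∣ Nat.card ((N.subgroupOf M).subgroupOf CA) := by
        rw [← hc, ← Nat.card_congr (Subgroup.subgroupOfEquivOfLe (hCN.trans hNA)).toEquiv,
          ← Nat.card_congr (Subgroup.subgroupOfEquivOfLe hCM).toEquiv]
        exact Subgroup.card_dvd_of_le (Subgroup.comap_mono (Subgroup.comap_mono hCN))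
      have h4 : Nat.card (Sylow 5 CA) * Nat.card ((N.subgroupOf M).subgroupOf CA) = 45 * j := by
        rw [TA.card_eq_index_normalizer, ← hj]
        exact (congrArg (fun S : Subgroup CA => S.index * Nat.card ((N.subgroupOf M).subgroupOf CA))
          h2).trans (Subgroup.index_mul_card _)
      obtain ⟨i, hi⟩ := h3
      rw [hi, h5] at h4
      exact ⟨i, Nat.eq_of_mul_eq_mul_left (by norm_num : 0 < 45) (by linarith)⟩
    have hmem : j ∈ Nat.divisors 12 := Nat.mem_divisors.2 ⟨hj12, by norm_num⟩
    rw [show Nat.divisors 12 = {1, 2, 3, 4, 6, 12} by decide +kernel] at hmem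
    simp only [Finset.mem_insert, Finset.mem_singleton] at hmem
    rcases hmem with e | e | e | e | e | e <;> rw [e] at hidx hj
    · norm_num at hidx
    · norm_num at hidx
    · norm_num at hidx
    · norm_num at hidx
    · exfalso
      obtain ⟨L, -, hL⟩ := H65.DihedralAltSix.exists_index_two (K := CA) (m := 135) ⟨67, rfl⟩
        (by rw [hj])
      have hL135 : Nat.card L = 135 := by
        have := L.card_mul_index
        rw [hL, hj] at this
        omega
      have hone : Nat.card (Sylow 5 L) = 1 := by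
        obtain ⟨B⟩ := (inferInstance : Nonempty (Sylow 5 L))
        have hB : Nat.card (B : Subgroup L) = 5 := by
          simpa using H36.card_sylow_eq (a := 1) (m := 27) hL135 B (by norm_num) (by norm_num)
        have h1 := Subgroup.index_dvd_of_le (Subgroup.le_normalizer (H := (B : Subgroup L)))
        have h2 := (B : Subgroup L).card_mul_index
        rw [hB, hL135] at h2
        have h3 : Nat.card (Sylow 5 L) ∣ 27 := by
          refine (dvd_of_eq B.card_eq_index_normalizer).trans (h1.trans (dvd_of_eq ?_))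
          omega
        have hmod := card_sylow_modEq_one 5 L
        have hmem : Nat.card (Sylow 5 L) ∈ (Nat.divisors 27).filter (fun k => k % 5 = 1) :=
          Finset.mem_filter.2 ⟨Nat.mem_divisors.2 ⟨h3, by norm_num⟩, by rwa [Nat.ModEq] at hmod⟩
        rw [show (Nat.divisors 27).filter (fun k => k % 5 = 1) = {1} by decide +kernel] at hmem
        exact Finset.mem_singleton.1 hmem
      have := H36.card_sylow_eq_one_of_index_lt L (by omega) hone
      omega
    · rw [hj, hMcard]
  have hMC : M ≤ Subgroup.centralizer (A : Set G) := fun g hg =>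
    Subgroup.mem_subgroupOf.1 (show (⟨g, hg⟩ : M) ∈ CA by rw [hCA540]; trivial)
  -- the Sylow 3-subgroup is abelian
  haveI hRc : IsMulCommutative (R : Subgroup G) := by
    have hAR : A.subgroupOf (R : Subgroup G) ≤ Subgroup.center (R : Subgroup G) := fun a ha =>
      Subgroup.mem_center_iff.2 fun r => Subtype.ext
        (hMC (hRM r.2) (a : G) (Subgroup.mem_subgroupOf.1 ha)).symm
    have h1 := Subgroup.index_dvd_of_le hAR
    have h2 := (A.subgroupOf (R : Subgroup G)).card_mul_index
    rw [Nat.card_congr (Subgroup.subgroupOfEquivOfLe hR).toEquiv, hA9, hR27] at h2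
    rw [show (A.subgroupOf (R : Subgroup G)).index = 3 by omega] at h1
    haveI : IsCyclic ((R : Subgroup G) ⧸ Subgroup.center (R : Subgroup G)) := by
      rcases (Nat.dvd_prime Nat.prime_three).1 h1 with e | e
      · haveI : Subsingleton ((R : Subgroup G) ⧸ Subgroup.center (R : Subgroup G)) :=
          (Nat.card_eq_one_iff_unique.1 e).1
        infer_instance
      · exact isCyclic_of_prime_card e
    exact MonoidHom.isMulCommutative_of_isCyclic_of_ker_le_center
      (QuotientGroup.mk' (Subgroup.center (R : Subgroup G)))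
      (le_of_eq (QuotientGroup.ker_mk' (Subgroup.center (R : Subgroup G))))
  have hRR : (R : Subgroup G) ≤ Subgroup.centralizer ((R : Subgroup G) : Set G) := fun q hq r hr =>
    congrArg Subtype.val (hRc.is_comm.comm ⟨r, hr⟩ ⟨q, hq⟩)
  -- an involution in `M` normalising `R`
  set NR := Subgroup.normalizer ((R : Subgroup G) : Set G) with hNR
  let RM : Sylow 3 M := R.subtype hRM
  have hRM' : Nat.card (RM : Subgroup M) = 27 :=
    (Nat.card_congr (Subgroup.subgroupOfEquivOfLe hRM).toEquiv).trans hR27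
  have hn10 : Nat.card ↥(NR ⊓ M) = 54 := by
    have h1 : Subgroup.normalizer ((RM : Subgroup M) : Set M) = NR.subgroupOf M :=
      (Subgroup.subgroupOf_normalizer_eq hRM).symm
    have h2 : Nat.card (Sylow 3 M) * Nat.card ↥(NR ⊓ M) = 540 := by
      rw [RM.card_eq_index_normalizer, ← Nat.card_congr
        (Subgroup.subgroupOfEquivOfLe (inf_le_right : NR ⊓ M ≤ M)).toEquiv,
        Subgroup.inf_subgroupOf_right, ← hMcard]
      exact (congrArg (fun S : Subgroup M => S.index * Nat.card (NR.subgroupOf M)) h1).trans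
        (NR.subgroupOf M).index_mul_card
    obtain ⟨j, hj⟩ : 27 ∣ Nat.card ↥(NR ⊓ M) :=
      hR27 ▸ Subgroup.card_dvd_of_le (le_inf Subgroup.le_normalizer hRM)
    have hmod := card_sylow_modEq_one 3 M
    set n3 := Nat.card (Sylow 3 M) with hn3
    rw [Nat.ModEq] at hmod
    rw [hj] at h2
    have hnj : n3 * j = 20 := by
      have : n3 * j * 27 = 20 * 27 := by rw [mul_assoc, mul_comm j]; exact h2
      exact Nat.eq_of_mul_eq_mul_right (by norm_num) this
    have hmem : n3 ∈ (Nat.divisors 20).filter (fun k => k % 3 = 1) :=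
      Finset.mem_filter.2 ⟨Nat.mem_divisors.2 ⟨Dvd.intro _ hnj, by norm_num⟩, hmod⟩
    rw [show (Nat.divisors 20).filter (fun k => k % 3 = 1) = {1, 4, 10} by decide +kernel] at hmem
    simp only [Finset.mem_insert, Finset.mem_singleton] at hmem
    rcases hmem with e | e | e <;> rw [e] at hnj
    · exfalso
      have hle := centralizes_twentyseven (t := (t : G)) ht hR27 (by
        have h20 : Nat.card ↥(NR ⊓ M) = Nat.card M := by rw [hj, hMcard]; omega
        have := Subgroup.eq_of_le_of_card_ge (inf_le_right : NR ⊓ M ≤ M) h20.ge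
        have htm : (t : G) ∈ NR ⊓ M := by rw [this]; exact hTM t.2
        exact htm.1)
      have := Subgroup.card_dvd_of_le hle
      rw [hR27, ← hCt, hc] at this
      norm_num at this
    · exfalso
      have h5 : 5 ∣ Nat.card ↥(NR ⊓ M) := by rw [hj]; exact Dvd.intro_left 27 (by omega)
      obtain ⟨w, hw⟩ := exists_prime_orderOf_dvd_card' 5 h5
      rw [← Subgroup.orderOf_coe] at hw
      have hle := centralizes_twentyseven hw hR27 w.2.1
      have := Subgroup.card_dvd_of_le hle
      rw [hR27, hall _ hw, hc] at this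
      norm_num at this
    · omega
  obtain ⟨r₀, hr₀⟩ := exists_prime_orderOf_dvd_card' 2 (G := ↥(NR ⊓ M)) (by rw [hn10]; norm_num)
  set r : G := (r₀ : G) with hrdef
  have hr : orderOf r = 2 := by rw [hrdef, Subgroup.orderOf_coe, hr₀]
  have hrR : ¬ (R : Subgroup G) ≤ Subgroup.centralizer ({r} : Set G) := by
    intro hle
    have hcen : Subgroup.normalizer ((RM : Subgroup M) : Set M) ≤
        Subgroup.centralizer ((RM : Subgroup M) : Set M) := by
      have hall' : NR ⊓ M ≤ Subgroup.centralizer ((R : Subgroup G) : Set G) := by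
        have hr' : r ∈ Subgroup.centralizer ((R : Subgroup G) : Set G) := fun q hq =>
          Subgroup.mem_centralizer_singleton_iff.1 (hle hq)
        have h2 : Nat.card ↥(NR ⊓ M) ∣
            Nat.card ↥(NR ⊓ M ⊓ Subgroup.centralizer ((R : Subgroup G) : Set G)) := by
          rw [hn10, show (54 : ℕ) = 2 * 27 by norm_num]
          refine Nat.Coprime.mul_dvd_of_dvd_of_dvd (by norm_num) ?_
            (hR27 ▸ Subgroup.card_dvd_of_le (le_inf (le_inf Subgroup.le_normalizer hRM) hRR))
          exact hr ▸ Subgroup.orderOf_dvd_natCard _ ⟨r₀.2, hr'⟩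
        exact inf_eq_left.1 (Subgroup.eq_of_le_of_card_ge inf_le_left
          (Nat.le_of_dvd Nat.card_pos h2))
      intro g hg q hq
      have hg' : g ∈ NR.subgroupOf M := (Subgroup.subgroupOf_normalizer_eq hRM) ▸ hg
      exact Subtype.ext (hall' ⟨Subgroup.mem_subgroupOf.1 hg', g.2⟩ (q : G)
        (Subgroup.mem_subgroupOf.1 hq))
    set K := (MonoidHom.transferSylow RM hcen).ker
    have hcomp := MonoidHom.ker_transferSylow_isComplement' RM hcen
    have hK20 : Nat.card K = 20 := by
      have h : Nat.card K * 27 = 540 := (congrArg (Nat.card K * ·) hRM'.symm).trans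
        (hcomp.card_mul_card.trans hMcard)
      omega
    have hKidx : K.index = 27 := hcomp.symm.index_eq_card.trans hRM'
    haveI : K.Normal := MonoidHom.normal_ker _
    have hle5 : ∀ Q : Sylow 5 M, (Q : Subgroup M) ≤ K := by
      intro Q q hq
      rw [← QuotientGroup.eq_one_iff]
      refine orderOf_eq_one_iff.1 (Nat.eq_one_of_dvd_coprimes (show Nat.Coprime 5 27 by norm_num) ?_ ?_)
      · refine (orderOf_map_dvd (QuotientGroup.mk' K) q).trans ?_
        have hQ5 : Nat.card (Q : Subgroup M) = 5 := by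
          simpa using H36.card_sylow_eq (a := 1) (m := 108) hMcard Q (by norm_num) (by norm_num)
        exact hQ5 ▸ Subgroup.orderOf_dvd_natCard _ hq
      · rw [← hKidx]; exact orderOf_dvd_natCard _
    have h6 := H36.card_sylow_eq_of_forall_le (p := 5) K hle5
    rw [hM6] at h6
    obtain ⟨B⟩ := (inferInstance : Nonempty (Sylow 5 K))
    have hB : Nat.card (B : Subgroup K) = 5 := by
      simpa using H36.card_sylow_eq (a := 1) (m := 4) hK20 B (by norm_num) (by norm_num)
    have h1 := Subgroup.index_dvd_of_le (Subgroup.le_normalizer (H := (B : Subgroup K)))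
    have h2 := (B : Subgroup K).card_mul_index
    rw [hB, hK20] at h2
    have h3 : Nat.card (Sylow 5 K) ∣ 4 :=
      (dvd_of_eq B.card_eq_index_normalizer).trans (h1.trans (dvd_of_eq (by omega)))
    rw [h6] at h3
    norm_num at h3
  -- the fixed subgroup of `r`
  have hF : (R : Subgroup G) ⊓ Subgroup.centralizer ({r} : Set G) = A := by
    symm
    have hAle : A ≤ (R : Subgroup G) ⊓ Subgroup.centralizer ({r} : Set G) := fun a ha =>
      ⟨hR ha, Subgroup.mem_centralizer_singleton_iff.2 (hMC r₀.2.2 a ha)⟩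
    refine Subgroup.eq_of_le_of_card_ge hAle ?_
    have hd : Nat.card ↥((R : Subgroup G) ⊓ Subgroup.centralizer ({r} : Set G)) ∈ Nat.divisors 27 :=
      Nat.mem_divisors.2 ⟨hR27 ▸ Subgroup.card_dvd_of_le inf_le_left, by norm_num⟩
    rw [show Nat.divisors 27 = {1, 3, 9, 27} by decide +kernel] at hd
    simp only [Finset.mem_insert, Finset.mem_singleton] at hd
    have hne : Nat.card ↥((R : Subgroup G) ⊓ Subgroup.centralizer ({r} : Set G)) ≠ 27 := fun e =>
      hrR (inf_eq_left.1 (Subgroup.eq_of_le_of_card_ge inf_le_left (by rw [e, hR27])))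
    rw [hA9]
    omega
  have hpres : ∀ w ∈ NR, Commute w r → w ∈ M := by
    intro w hw hwr
    refine Subgroup.mem_normalizer_iff.2 fun g => ?_
    rw [← hF]
    have h1 := Subgroup.mem_normalizer_iff.1 hw g
    constructor
    · rintro ⟨hgR, hgr⟩
      refine ⟨h1.1 hgR, Subgroup.mem_centralizer_singleton_iff.2 ?_⟩
      have hg : Commute g r := Subgroup.mem_centralizer_singleton_iff.1 hgr
      exact (hwr.mul_left hg).mul_left hwr.inv_left
    · rintro ⟨hgR, hgr⟩
      refine ⟨h1.2 hgR, Subgroup.mem_centralizer_singleton_iff.2 ?_⟩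
      have hg : Commute (w * g * w⁻¹) r := Subgroup.mem_centralizer_singleton_iff.1 hgr
      have := (hwr.inv_left.mul_left hg).mul_left hwr
      simpa [mul_assoc] using this.eq
  -- the normaliser of `R` centralises `A`
  have hNRM : NR ≤ M := by
    have hr₀R : r ∈ NR := r₀.2.1
    obtain ⟨S₀, hS₀⟩ := (IsPGroup.of_card (p := 2) (n := 1)
      (G := Subgroup.zpowers (⟨r, hr₀R⟩ : NR))
      (by rw [Nat.card_zpowers, Subgroup.orderOf_mk, hr, pow_one])).exists_le_sylow
    set S : Subgroup G := (S₀ : Subgroup NR).map NR.subtype with hS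
    have hSN : S ≤ NR := Subgroup.map_subtype_le _
    have hrS : r ∈ S := ⟨⟨r, hr₀R⟩, hS₀ (Subgroup.mem_zpowers _), rfl⟩
    have hSp : IsPGroup 2 S := S₀.2.map _
    haveI : Nontrivial S := ⟨⟨r, hrS⟩, 1, fun e => by
      have := congrArg Subtype.val e
      simp at this
      rw [this, orderOf_one] at hr
      omega⟩
    haveI := hSp.center_nontrivial
    obtain ⟨j, hj⟩ := (hSp.to_subgroup (Subgroup.center S)).exists_card_eq
    have h2Z : 2 ∣ Nat.card (Subgroup.center S) := by
      have := Finite.one_lt_card_iff_nontrivial.2 (inferInstance : Nontrivial (Subgroup.center S))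
      rcases j with _ | j
      · rw [hj, pow_zero] at this; omega
      · rw [hj]; exact dvd_pow_self 2 (by omega)
    obtain ⟨w₀, hw₀⟩ := exists_prime_orderOf_dvd_card' 2 h2Z
    set w : G := ((w₀ : S) : G) with hwdef
    have hw : orderOf w = 2 := by rw [hwdef, Subgroup.orderOf_coe, Subgroup.orderOf_coe, hw₀]
    have hwc : ∀ g ∈ S, Commute g w := fun g hg =>
      congrArg Subtype.val (Subgroup.mem_center_iff.1 w₀.2 ⟨g, hg⟩)
    have hwM : w ∈ M := hpres w (hSN (w₀ : S).2) (hwc r hrS).symm
    have hsmall : Nat.card ↥(S ⊓ M) ∣ 2 := by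
      have h1 : Nat.card ↥(S ⊓ M) ∣ 54 :=
        hn10 ▸ Subgroup.card_dvd_of_le (inf_le_inf_right M hSN)
      obtain ⟨i, hi⟩ := (hSp.to_le (inf_le_left : S ⊓ M ≤ S)).exists_card_eq
      have hc' : Nat.Coprime (Nat.card ↥(S ⊓ M)) 27 := by
        rw [hi]; exact Nat.Coprime.pow_left _ (by norm_num)
      exact hc'.dvd_of_dvd_mul_right (show _ ∣ 2 * 27 by simpa using h1)
    have hwr : w = r := by
      have hrm : r ∈ S ⊓ M := ⟨hrS, r₀.2.2⟩
      have hwm : w ∈ S ⊓ M := ⟨(w₀ : S).2, hwM⟩
      have hz : Subgroup.zpowers r = S ⊓ M := Subgroup.eq_of_le_of_card_ge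
        (Subgroup.zpowers_le.2 hrm) (by rw [Nat.card_zpowers, hr]; exact Nat.le_of_dvd (by norm_num) hsmall)
      rw [← hz, mem_zpowers_iff_mem_range_orderOf, hr, Finset.mem_image] at hwm
      obtain ⟨i, hi, hiw⟩ := hwm
      rw [Finset.mem_range] at hi
      interval_cases i
      · rw [pow_zero] at hiw
        rw [← hiw, orderOf_one] at hw
        omega
      · rw [← hiw, pow_one]
    have hSM : S ≤ M := fun g hg => hpres g (hSN hg) (hwr ▸ hwc g hg)
    -- the normaliser has order `27 * |S|`
    have hS₀c : Nat.card S = Nat.card (S₀ : Subgroup NR) :=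
      Subgroup.card_map_of_injective (Subgroup.subtype_injective _)
    have h11' : ¬ 11 ∣ Nat.card NR :=
      not_dvd_eleven hG (A := (R : Subgroup G)) (by rw [hR27]; norm_num) (by rw [hR27]; norm_num)
    have h5' : ¬ 5 ∣ Nat.card NR := by
      intro h
      obtain ⟨q, hq⟩ := exists_prime_orderOf_dvd_card' 5 h
      rw [← Subgroup.orderOf_coe] at hq
      have hle := centralizes_twentyseven hq hR27 q.2
      have := Subgroup.card_dvd_of_le hle
      rw [hR27, hall _ hq, hc] at this
      norm_num at this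
    have hdvd : Nat.card NR ∣ Nat.card ↥(NR ⊓ M) := by
      have h1 : Nat.card NR ∣ 95040 := hG.2 ▸ Subgroup.card_subgroup_dvd_card _
      have hco : Nat.Coprime (Nat.card NR) 55 := by
        rw [show (55 : ℕ) = 5 * 11 by norm_num]
        exact Nat.Coprime.mul_right ((Nat.Prime.coprime_iff_not_dvd (by norm_num)).2 h5').symm
          ((Nat.Prime.coprime_iff_not_dvd (by norm_num)).2 h11').symm
      have h2 : Nat.card NR ∣ 2 ^ 6 * 27 := hco.dvd_of_dvd_mul_right (show _ ∣ 2 ^ 6 * 27 * 55 by simpa using h1)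
      have h27 : 27 ∣ Nat.card NR := hR27 ▸ Subgroup.card_dvd_of_le Subgroup.le_normalizer
      obtain ⟨q, hq⟩ := h27
      have hq64 : q ∣ 2 ^ 6 := Nat.dvd_of_mul_dvd_mul_left (by norm_num : 0 < 27) (by rw [← hq]; simpa [mul_comm] using h2)
      obtain ⟨i, -, rfl⟩ := (Nat.dvd_prime_pow Nat.prime_two).1 hq64
      have hSi : 2 ^ i ∣ Nat.card S := by
        rw [hS₀c]
        exact S₀.pow_dvd_card_of_pow_dvd_card ⟨27, by rw [hq]; ring⟩
      rw [hq]
      refine Nat.Coprime.mul_dvd_of_dvd_of_dvd (Nat.Coprime.pow_right _ (by norm_num)) ?_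
        (hSi.trans (Subgroup.card_dvd_of_le (le_inf hSN hSM)))
      exact hR27 ▸ Subgroup.card_dvd_of_le (le_inf Subgroup.le_normalizer hRM)
    exact inf_eq_left.1 (Subgroup.eq_of_le_of_card_ge inf_le_left (Nat.le_of_dvd Nat.card_pos hdvd))
  -- transfer
  obtain ⟨a, haA, ha1⟩ : ∃ a ∈ A, a ≠ 1 := by
    by_contra h
    push Not at h
    rw [(Subgroup.eq_bot_iff_forall _).2 h, Subgroup.card_bot] at hA9
    omega
  have haR : a ∈ (R : Subgroup G) := hR haA
  have key : ∀ (k : ℕ) (g₀ : G), g₀⁻¹ * a ^ k * g₀ ∈ (R : Subgroup G) →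
      g₀⁻¹ * a ^ k * g₀ = a ^ k := by
    intro k g₀ hk
    obtain ⟨n, hn', he⟩ := R.conj_eq_normalizer_conj_of_mem_centralizer (a ^ k) g₀
      (hRR (pow_mem haR k)) (hRR hk)
    rw [he]
    have hca := hMC (hNRM hn') (a ^ k) (pow_mem haA k)
    rw [mul_assoc, hca, inv_mul_cancel_left]
  letI : CommGroup (R : Subgroup G) := { (inferInstance : Group (R : Subgroup G)) with
    mul_comm := hRc.is_comm.comm }
  have htr := MonoidHom.transfer_eq_pow (ϕ := MonoidHom.id (R : Subgroup G)) a key
  have htriv : MonoidHom.transfer (MonoidHom.id (R : Subgroup G)) a = 1 := by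
    rcases (MonoidHom.normal_ker
      (MonoidHom.transfer (MonoidHom.id (R : Subgroup G)))).eq_bot_or_eq_top with h | h
    · exact absurd ⟨⟨fun x y => (MonoidHom.ker_eq_bot_iff _).1 h (by rw [map_mul, map_mul, mul_comm])⟩⟩
        (not_comm hG)
    · exact MonoidHom.mem_ker.1 (h ▸ Subgroup.mem_top a)
  rw [htr] at htriv
  have hpow : a ^ (R : Subgroup G).index = 1 := congrArg Subtype.val htriv
  have hidx : (R : Subgroup G).index = 3520 := by
    have := card_mul_index hG (R : Subgroup G)
    rw [hR27] at this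
    omega
  apply ha1
  refine orderOf_eq_one_iff.1 (Nat.eq_one_of_dvd_coprimes (show Nat.Coprime 27 3520 by norm_num)
    (hR27 ▸ Subgroup.orderOf_dvd_natCard _ haR) ?_)
  rw [← hidx]
  exact orderOf_dvd_of_pow_eq_one hpow

end Cfsg.Agent.H28.M12
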