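import Cfsg.Agent.H28.M12.Column
import Cfsg.Agent.H28.M12.Columns
import Cfsg.Agent.H28.M12.Five

/-!
The degrees and the two involution columns of the principal 11-block of a simple group of order 95040.
-/

set_option autoImplicit false

namespace Cfsg.Agent.H28.M12

open Subgroup Cfsg.Agent.CharBasic

local instance fact_two_cm : Fact (Nat.Prime 2) := ⟨Nat.prime_two⟩

universe u

variable {G : Type u} [Group G]

/-- An involution centralizing a Sylow 2-subgroup. -/
theorem exists_central_involution [Finite G] (hG : Cfsg.IsM12 G) :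
    ∃ z : G, orderOf z = 2 ∧ 64 ∣ Nat.card (Subgroup.centralizer ({z} : Set G)) := by
  obtain ⟨P⟩ := (inferInstance : Nonempty (Sylow 2 G))
  have hP : Nat.card (P : Subgroup G) = 64 := by
    simpa using H36.card_sylow_eq (a := 6) (m := 1485) hG.2 P (by norm_num) (by norm_num)
  haveI : Nontrivial (P : Subgroup G) := Finite.one_lt_card_iff_nontrivial.1 (by rw [hP]; norm_num)
  haveI := P.2.center_nontrivial
  obtain ⟨k, hk⟩ := (P.2.to_subgroup (Subgroup.center (P : Subgroup G))).exists_card_eq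
  have h2 : 2 ∣ Nat.card (Subgroup.center (P : Subgroup G)) := by
    have h1 : 1 < Nat.card (Subgroup.center (P : Subgroup G)) := Finite.one_lt_card
    rw [hk] at h1 ⊢
    rcases k with _ | k
    · norm_num at h1
    · exact dvd_pow_self 2 (by omega)
  obtain ⟨z, hz⟩ := exists_prime_orderOf_dvd_card' 2 h2
  refine ⟨((z : (P : Subgroup G)) : G), by rw [Subgroup.orderOf_coe, Subgroup.orderOf_coe, hz], ?_⟩
  rw [← hP]
  refine Subgroup.card_dvd_of_le fun g hg => Subgroup.mem_centralizer_singleton_iff.2 ?_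
  exact congrArg Subtype.val (Subgroup.mem_center_iff.1 z.2 ⟨g, hg⟩)

theorem chk_mem {d0 d1 d2 d3 f : ℕ} (h0 : d0 ∈ Search.XL) (h1 : d1 ∈ Search.XL)
    (h2 : d2 ∈ Search.XL) (h3 : d3 ∈ Search.XL) (hf : f ∈ Search.YL) (l01 : d0 ≤ d1)
    (l12 : d1 ≤ d2) (l23 : d2 ≤ d3) {s : ℤ} (hs : s = 1 ∨ s = -1) :
    Search.chk d0 d1 d2 d3 f s = true := by
  have h := Search.chkAll_eq
  simp only [Search.chkAll, List.all_eq_true, Bool.or_eq_true, Bool.not_eq_true',
    decide_eq_false_iff_not, Bool.and_eq_true] at h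
  have a := ((h d0 h0 d1 h1).resolve_left (fun n => n l01))
  have b := ((a d2 h2).resolve_left (fun n => n l12))
  have c := ((b d3 h3).resolve_left (fun n => n l23)) f hf
  rcases hs with rfl | rfl
  exacts [c.1, c.2]

/-- The six characters with their degrees, the central column and the column of an involution
centralizing an element of order five. -/
theorem columns_at [Finite G] (hG : Cfsg.IsM12 G) {u s t : G} (hu : orderOf u = 2)
    (hu64 : 64 ∣ Nat.card (Subgroup.centralizer ({u} : Set G))) (hs : orderOf s = 2)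
    (ht : orderOf t = 5) (hst : Commute s t) : Columns G u s t := by
  classical
  cases nonempty_fintype G
  obtain ⟨B₀⟩ := exists_block hG
  choose dd hdd hXL hδ using fun i => Block.degree hG B₀ i
  let σ := Tuple.sort dd
  have hmono : Monotone (dd ∘ σ) := Tuple.monotone_sort dd
  let B := B₀.perm σ
  set d : Fin 4 → ℕ := fun i => dd (σ i) with hdef
  have hd : ∀ i, (B.c i : G → ℂ) 1 = d i := fun i => hdd (σ i)
  have hXL' : ∀ i, d i ∈ Search.XL := fun i => hXL (σ i)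
  have hδ' : ∀ i, B.δ i = Search.sgn (d i) := fun i => hδ (σ i)
  obtain ⟨f, hf, hf', hfY, hfmod⟩ := B.degreeθ hG
  have hku : KindData true u := by simpa [KindData] using hu64
  have hks : KindData false s := by
    show if false = true then _ else ∃ t : G, orderOf t = 5 ∧ Commute s t
    simpa using ⟨t, ht, hst⟩
  -- the degree equation
  have hdeg : Search.degOK (d 0) (d 1) (d 2) (d 3) f B.s = true := by
    have h1 := (B.regular 1 (by simp)).2
    rw [Fin.sum_univ_four, hd, hd, hd, hd, hδ', hδ', hδ', hδ', hf] at h1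
    have h1' : 1 + Search.sgn (d 0) * (d 0 : ℤ) + Search.sgn (d 1) * (d 1 : ℤ) +
        Search.sgn (d 2) * (d 2 : ℤ) + Search.sgn (d 3) * (d 3 : ℤ) + B.s * f = 0 := by
      have e : ((1 + Search.sgn (d 0) * (d 0 : ℤ) + Search.sgn (d 1) * (d 1 : ℤ) +
        Search.sgn (d 2) * (d 2 : ℤ) + Search.sgn (d 3) * (d 3 : ℤ) + B.s * f : ℤ) : ℂ) = 0 := by
        rw [← h1]; push_cast; ring
      exact_mod_cast e
    have hsq : (1 : ℤ) + (d 0 : ℤ) ^ 2 + (d 1 : ℤ) ^ 2 + (d 2 : ℤ) ^ 2 + (d 3 : ℤ) ^ 2 +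
        2 * (f : ℤ) ^ 2 ≤ 95040 := by
      have e := sum_sq_degree (G := G)
      rw [Finset.sum_congr rfl fun (χ : Cfsg.IrrCharacter G) _ => show (χ : G → ℂ) 1 ^ 2 =
        ((Cfsg.charDegree (χ : G → ℂ) : ℂ)) ^ 2 by rw [(H83.charDegree_eq χ.2).1],
        B.split, Fin.sum_univ_four] at e
      have hcd : ∀ (ψ : Cfsg.IrrCharacter G) (n : ℕ), (ψ : G → ℂ) 1 = n →
          Cfsg.charDegree (ψ : G → ℂ) = n := fun ψ n h => by
        have := (H83.charDegree_eq ψ.2).1
        rw [h] at this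
        exact_mod_cast this.symm
      rw [hcd _ _ (hd 0), hcd _ _ (hd 1), hcd _ _ (hd 2), hcd _ _ (hd 3), hcd _ _ hf, hcd _ _ hf',
        hcd (H36.SelfCentral.triv G) 1 (by simp [H36.SelfCentral.triv]), hG.2] at e
      have e' : 1 ^ 2 + (d 0 ^ 2 + d 1 ^ 2 + d 2 ^ 2 + d 3 ^ 2) + f ^ 2 + f ^ 2 +
          ∑ χ ∈ B.rest, Cfsg.charDegree (χ : G → ℂ) ^ 2 = 95040 := by
        exact_mod_cast e
      have : 1 + d 0 ^ 2 + d 1 ^ 2 + d 2 ^ 2 + d 3 ^ 2 + 2 * f ^ 2 ≤ 95040 := by omega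
      exact_mod_cast this
    simp only [Search.degOK, Bool.and_eq_true, beq_iff_eq, decide_eq_true_eq]
    exact ⟨⟨h1', hfmod⟩, by exact_mod_cast hsq⟩
  have hchk := chk_mem (hXL' 0) (hXL' 1) (hXL' 2) (hXL' 3) hfY (hmono (show (0 : Fin 4) ≤ 1 by decide))
    (hmono (show (1 : Fin 4) ≤ 2 by decide)) (hmono (show (2 : Fin 4) ≤ 3 by decide)) B.s_sign
  simp only [Search.chk, Bool.or_eq_true, Bool.not_eq_true', hdeg, Bool.true_eq_false, false_or,
    Bool.and_eq_true, beq_iff_eq] at hchk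
  obtain ⟨⟨⟨⟨⟨e0, e1⟩, e2⟩, e3⟩, ef⟩, es⟩ := hchk.resolve_right (by
    intro hall
    cases hk : Search.kind (d 0) (d 1) (d 2) (d 3) with
    | true =>
      rw [hk] at hall
      obtain ⟨a, e, -, -, -, hgood, hH, ha3, hok, hoke⟩ := exists_column hG B hd hδ' hf hu hku
      exact Bool.false_ne_true (allCols_spec hall (centralizer_mem_hs hG hu hku) hgood ha3 hH (hok 0)
        (hok 1) (hok 2) hoke)
    | false =>
      rw [hk] at hall
      obtain ⟨a, e, -, -, -, hgood, hH, ha3, hok, hoke⟩ := exists_column hG B hd hδ' hf hs hks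
      exact Bool.false_ne_true (allCols_spec hall (centralizer_mem_hs hG hs hks) hgood ha3 hH (hok 0)
        (hok 1) (hok 2) hoke))
  obtain ⟨a, e, hau, hθu, hθu', hgu, hHu, ha3u, hoku, hokeu⟩ := exists_column hG B hd hδ' hf hu hku
  obtain ⟨b, η₀, hbs, hθs, hθs', hgs, hHs, hb3, hoks, hokes⟩ := exists_column hG B hd hδ' hf hs hks
  have o0 := hoku 0
  have o1 := hoku 1
  have o2 := hoku 2
  have p0 := hoks 0
  have p1 := hoks 1
  have p2 := hoks 2
  rw [e0] at o0 p0
  rw [e1] at o1 p1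
  rw [e2] at o2 p2
  rw [ef] at hokeu hokes
  rw [e0, e1, e2, e3, ef] at hHu hHs
  rw [e0, e1, e2, e3, es] at ha3u hb3
  rw [e0, e1, e2, e3, ef, es] at hgu hgs
  have qu := allCols_spec Search.u_column (centralizer_mem_hs hG hu hku) hgu ha3u hHu o0 o1 o2 hokeu
  have qs := allCols_spec Search.s_column (centralizer_mem_hs hG hs hks) hgs hb3 hHs p0 p1 p2 hokes
  simp only [Bool.and_eq_true, beq_iff_eq] at qu
  simp only [Bool.and_eq_true, Bool.or_eq_true, beq_iff_eq] at qs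
  obtain ⟨⟨⟨⟨⟨u0, u1⟩, u2⟩, u3⟩, ue⟩, uh⟩ := qu
  obtain ⟨⟨⟨⟨s0, s1⟩, s2⟩, s34⟩, sh⟩ := qs
  obtain ⟨η, hη, s3, se⟩ : ∃ η : ℤ, (η = 1 ∨ η = -1) ∧ b 3 = 4 * η ∧ η₀ = 4 * η := by
    rcases s34 with ⟨h3, he⟩ | ⟨h3, he⟩
    · exact ⟨1, Or.inl rfl, by omega, by omega⟩
    · exact ⟨-1, Or.inr rfl, by omega, by omega⟩
  let c : Fin 6 → Cfsg.IrrCharacter G := ![B.c 0, B.c 1, B.c 2, B.c 3, B.θ, B.θ']
  have hc4 : ∀ i : Fin 4, c i.castSucc.castSucc = B.c i := by intro i; fin_cases i <;> rfl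
  have hsign : ∀ i : Fin 4, B.δ i = blockSign i := by
    intro i
    rw [hδ' i]
    fin_cases i <;> simp [blockSign, Search.sgn, e0, e1, e2, e3]
  refine ⟨hu, hs, ht, hst, uh, sh, c, η, ?_, hη, ?_, ?_, ?_, ?_, ?_, ?_⟩
  · intro i j hij
    have hne : ∀ i, B.c i ≠ B.θ ∧ B.c i ≠ B.θ' := fun i => ⟨(B.c_ne i).1, (B.c_ne i).2.1⟩
    fin_cases i <;> fin_cases j <;> first
      | rfl
      | exact absurd (B.inj hij) (by decide)
      | exact absurd hij (hne _).1
      | exact absurd hij (hne _).2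
      | exact absurd hij.symm (hne _).1
      | exact absurd hij.symm (hne _).2
      | exact absurd hij B.ne_θ
      | exact absurd hij.symm B.ne_θ
  · intro i
    fin_cases i <;> simp [c, blockDeg, hd, hf, hf', e0, e1, e2, e3, ef]
  · intro i
    fin_cases i <;> simp [c, hau, hθu, hθu', u0, u1, u2, u3, ue]
  · intro i
    fin_cases i <;> simp [c, hbs, hθs, hθs', s0, s1, s2, s3, se]
  · intro x hx
    refine ⟨fun i => ?_, ?_⟩
    · rw [hc4, (B.val x hx).1 i, hsign]
    · show (B.θ : G → ℂ) x + (B.θ' : G → ℂ) x = -1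
      rw [(B.val x hx).2, es]; norm_num
  · intro g hg
    obtain ⟨h1, h2⟩ := B.regular g hg
    refine ⟨h1.symm, ?_⟩
    show (B.θ : G → ℂ) g = _
    rw [Finset.sum_congr rfl fun i _ => show (blockSign i : ℂ) * (c i.castSucc.castSucc : G → ℂ) g =
      (B.δ i : ℂ) * (B.c i : G → ℂ) g by rw [hc4, hsign]]
    rw [es] at h2
    push_cast at h2
    linear_combination -h2
  · intro χ hχ h1
    obtain ⟨⟨m, hm⟩, hval⟩ := B.other χ (fun i => hc4 i ▸ hχ _) (hχ 4) (hχ 5)
      (fun h => h1 (by rw [h]))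
    refine ⟨⟨m.toNat, ?_⟩, hval⟩
    have h3 := (H83.charDegree_eq χ.2).1
    rw [hm] at h3
    have h4 : (11 * m : ℤ) = (Cfsg.charDegree (χ : G → ℂ) : ℤ) := by exact_mod_cast h3
    rw [hm]
    have h5 : ((11 * m.toNat : ℕ) : ℤ) = 11 * m := by omega
    exact_mod_cast h5.symm

/-- The block columns exist. -/
theorem exists_columns [Finite G] (hG : Cfsg.IsM12 G) : ∃ u s t, Columns G u s t := by
  obtain ⟨u, hu, hu64⟩ := exists_central_involution hG
  obtain ⟨s, t, hs, ht, hst⟩ := exists_commuting_involution hG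
  exact ⟨u, s, t, columns_at hG hu hu64 hs ht hst⟩

end Cfsg.Agent.H28.M12
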