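import Cfsg.Agent.H28.M12.Tools
import Cfsg.Agent.H86.PrimeOrderBlock
import Cfsg.Agent.H36.DegreeEq
import Cfsg.Agent.H81.SimpleDegree
import Cfsg.Agent.BlockBasic.Local
import Cfsg.Agent.S4705

/-!
A simple group of order 95040 has 1728 Sylow 11-subgroups, each self-centralizing.
-/

set_option autoImplicit false

namespace Cfsg.Agent.H28.M12

open MulAction Subgroup Cfsg.Agent.CharBasic Cfsg.Agent.BlockBasic

local instance fact_eleven'' : Fact (Nat.Prime 11) := ⟨by norm_num⟩

variable {G : Type*} [Group G] [Finite G]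

theorem relIndex_mul (A : Subgroup G) :
    Nat.card (Subgroup.centralizer (A : Set G)) *
      (Subgroup.centralizer (A : Set G)).relIndex (Subgroup.normalizer (A : Set G)) =
      Nat.card (Subgroup.normalizer (A : Set G)) := by
  have := Subgroup.relIndex_mul_relIndex ⊥ (Subgroup.centralizer (A : Set G)) _ bot_le
    (Subgroup.centralizer_le_normalizer _)
  rwa [Subgroup.relIndex_bot_left, Subgroup.relIndex_bot_left] at this

theorem le_centralizer_eleven (hG : Cfsg.IsM12 G) (P : Sylow 11 G) :
    (P : Subgroup G) ≤ Subgroup.centralizer ((P : Subgroup G) : Set G) := by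
  haveI : IsCyclic (P : Subgroup G) := isCyclic_of_prime_card (card_eleven hG P)
  intro g hg h hh
  have := (IsCyclic.commGroup (α := (P : Subgroup G))).mul_comm ⟨h, hh⟩ ⟨g, hg⟩
  exact congrArg Subtype.val this

set_option synthInstance.maxSize 1024 in
theorem degree_pair : ∀ d < 309, d ∣ 95040 → 2 ≤ d → (d % 11 = 1 ∨ d % 11 = 10) →
      ((d - 1) ∣ 95040 → ((d - 1) % 11 = 2 ∨ (d - 1) % 11 = 9) → d - 1 = 9) ∧
      ((d + 1) ∣ 95040 → ((d + 1) % 11 = 2 ∨ (d + 1) % 11 = 9) → d + 1 = 9) := by decide +kernel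

/-- the principal block excludes `[N(P) : C(P)] = 2` -/
theorem relIndex_ne_two (hG : Cfsg.IsM12 G) (P : Sylow 11 G) :
    (Subgroup.centralizer ((P : Subgroup G) : Set G)).relIndex
      (Subgroup.normalizer ((P : Subgroup G) : Set G)) ≠ 2 := by
  classical
  intro he
  haveI := hG.1
  cases nonempty_fintype G
  have hP : Nat.card P = 11 := card_eleven hG P
  obtain ⟨M, hM⟩ := exists_isPModular (p := 11) (by norm_num)
  obtain ⟨X, Y, εX, ε, -, hdisj, hX, hY, hXv, hε, hθ, -, hrel, htriv, -⟩ :=
    H86.Abelian.exists_structure_full P hP hM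
  have he' : (Subgroup.centralizer ((P : Subgroup G) : Set G)).relIndex
      (Subgroup.normalizer (P : Set G)) = 2 := he
  rw [he'] at hX hY hθ
  obtain ⟨χ, hχ⟩ := Finset.card_eq_one.1 (show (X.erase trivialIrr).card = 1 by
    rw [Finset.card_erase_of_mem htriv, hX])
  have hχm : χ ∈ X.erase trivialIrr := by rw [hχ]; exact Finset.mem_singleton_self χ
  have hXeq : X = {trivialIrr, χ} := by rw [← hχ, Finset.insert_erase htriv]
  obtain ⟨θ, hθY⟩ : Y.Nonempty := Finset.card_pos.1 (by rw [hY]; norm_num)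
  have hθt : θ ≠ trivialIrr := fun e => Finset.disjoint_left.1 hdisj htriv (e ▸ hθY)
  obtain ⟨x, hxP, hx1⟩ : ∃ x ∈ (P : Subgroup G), x ≠ 1 := by
    by_contra h
    push Not at h
    rw [(Subgroup.eq_bot_iff_forall _).2 h, Subgroup.card_bot] at hP
    norm_num at hP
  have hone : εX trivialIrr = 1 := by
    have h := (hXv _ htriv).2.2 x hxP hx1 1 (one_mem _) (by simp)
    have h' : (1 : ℂ) = εX trivialIrr := h
    exact_mod_cast h'.symm
  have hna := not_comm hG
  obtain ⟨d, hd2, hd, hdN⟩ := H36.SelfCentral.exists_degree_two_le hna (χ := χ)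
    (fun e => (Finset.mem_erase.1 hχm).1 (Subtype.ext (congrArg Subtype.val e)))
  obtain ⟨f, hf2, hf, hfN⟩ := H36.SelfCentral.exists_degree_two_le hna (χ := θ)
    (fun e => hθt (Subtype.ext (congrArg Subtype.val e)))
  have hcd : ∀ (ψ : Cfsg.IrrCharacter G) (n : ℕ), (ψ : G → ℂ) 1 = n →
      Cfsg.charDegree (ψ : G → ℂ) = n := fun ψ n h => by
    have := (H83.charDegree_eq ψ.2).1
    rw [h] at this
    exact_mod_cast this.symm
  obtain ⟨hs, hds, -⟩ := hXv χ (Finset.mem_of_mem_erase hχm)
  rw [hcd χ d hd] at hds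
  have hft := hθ θ hθY
  rw [hcd θ f hf] at hft
  have hr := hrel θ hθY 1 (by simp)
  rw [hXeq, Finset.sum_pair (Ne.symm (Finset.mem_erase.1 hχm).1), hone, hd, hf,
    show ((trivialIrr : Cfsg.IrrCharacter G) : G → ℂ) 1 = 1 from rfl] at hr
  have hr' : ε * (f : ℤ) = 1 + εX χ * d := by
    apply Int.cast_injective (α := ℂ)
    push_cast
    simpa using hr
  have hsum : d ^ 2 ≤ 95040 := by
    have h : (Cfsg.charDegree (χ : G → ℂ)) ^ 2 ≤ Fintype.card G := by
      have h1 := sum_sq_degree (G := G)
      have h2 : ∑ ψ : Cfsg.IrrCharacter G, Cfsg.charDegree (ψ : G → ℂ) ^ 2 = Nat.card G := by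
        apply Nat.cast_injective (R := ℂ)
        push_cast
        rw [← h1]
        exact Finset.sum_congr rfl fun ψ _ => by rw [(H83.charDegree_eq ψ.2).1]
      rw [← Nat.card_eq_fintype_card, ← h2]
      exact Finset.single_le_sum (f := fun ψ : Cfsg.IrrCharacter G => Cfsg.charDegree (ψ : G → ℂ) ^ 2)
        (fun ψ _ => Nat.zero_le _)
        (Finset.mem_univ χ)
    rw [← Nat.card_eq_fintype_card, hG.2, hcd χ d hd] at h
    exact h
  have hdlt : d < 309 := by nlinarith
  rw [hG.2] at hdN hfN
  have key := degree_pair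
  have hf9 : f = 9 := by
    have hk := key d hdlt hdN hd2 (by
      rw [Int.modEq_iff_dvd] at hds
      rcases hs with e | e <;> rw [e] at hds <;> omega)
    have hfm : f % 11 = 2 ∨ f % 11 = 9 := by
      rw [Int.modEq_iff_dvd] at hft
      rcases hε with e | e <;> rw [e] at hft <;> omega
    have hfd : f = d - 1 ∨ f = d + 1 := by
      rcases hs with e | e <;> rcases hε with e' | e' <;> rw [e, e'] at hr' <;> omega
    rcases hfd with e | e <;> rw [e] at hfN hfm ⊢
    · exact hk.1 hfN hfm
    · exact hk.2 hfN hfm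
  subst hf9
  have hnn : ¬ (P : Subgroup G).Normal := fun hn => by
    rcases hn.eq_bot_or_eq_top with h | h <;> rw [h] at hP
    · rw [Subgroup.card_bot] at hP; norm_num at hP
    · rw [Subgroup.card_top, hG.2] at hP; norm_num at hP
  obtain ⟨a, F, _, _, h11, -⟩ := S4705.result 11 (by norm_num) P hP hnn (θ : G → ℂ) θ.2
    (H81.SimpleDegree.faithful fun e => hθt (Subtype.ext e)) (by rw [hcd θ 9 hf])
  have h10 : 2 ^ a = 10 := by omega
  rcases a with _ | _ | _ | _ | a
  · norm_num at h10
  · norm_num at h10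
  · norm_num at h10
  · norm_num at h10
  · have : (16 : ℕ) ≤ 2 ^ (a + 1 + 1 + 1 + 1) := by
      calc (16 : ℕ) = 2 ^ 4 := by norm_num
        _ ≤ _ := Nat.pow_le_pow_right (by norm_num) (by omega)
    omega

/-- a group of order 6 or 12 has a nontrivial characteristic 2- or 3-subgroup cut out by an exponent -/
theorem exists_power_subgroup {K : Type*} [Group K] [Finite K]
    (h : Nat.card K = 6 ∨ Nat.card K = 12) :
    ∃ (p : ℕ) (Y : Subgroup K), (p = 3 ∨ (p = 2 ∧ Nat.card K = 12)) ∧ Y ≠ ⊥ ∧
      IsPGroup p Y ∧ ∀ g : K, g ∈ Y ↔ g ^ Nat.card Y = 1 := by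
  classical
  haveI : Fact (Nat.Prime 3) := ⟨Nat.prime_three⟩
  haveI : Fact (Nat.Prime 2) := ⟨Nat.prime_two⟩
  have h3K : 3 ∣ Nat.card K := by rcases h with e | e <;> rw [e] <;> norm_num
  have hKd : Nat.card K ∣ 12 := by rcases h with e | e <;> rw [e] <;> norm_num
  have h3 : ∀ Q : Sylow 3 K, Nat.card (Q : Subgroup K) = 3 := by
    intro Q
    obtain ⟨m, hm⟩ := Q.2.exists_card_eq
    have h1 : 3 ∣ Nat.card (Q : Subgroup K) := Q.dvd_card_of_dvd_card h3K
    have h2 : Nat.card (Q : Subgroup K) ∣ 12 := (Subgroup.card_subgroup_dvd_card _).trans hKd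
    rw [hm] at h1 h2 ⊢
    match m, h1, h2 with
    | 0, h1, _ => norm_num at h1
    | 1, _, _ => norm_num
    | m + 2, _, h2 =>
      exact absurd ((Dvd.intro_left (3 ^ m) (pow_add 3 m 2).symm).trans h2) (by norm_num)
  obtain ⟨Q⟩ := (inferInstance : Nonempty (Sylow 3 K))
  by_cases hn : Nat.card (Sylow 3 K) = 1
  · refine ⟨3, Q, Or.inl rfl, fun e => ?_, Q.2, fun g => ⟨fun hg => ?_, fun hg => ?_⟩⟩
    · have h' := h3 Q
      rw [e, Subgroup.card_bot] at h'
      omega
    · exact orderOf_dvd_iff_pow_eq_one.1 (Subgroup.orderOf_dvd_natCard _ hg)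
    · rw [h3 Q] at hg
      have hp : IsPGroup 3 (Subgroup.zpowers g) := by
        refine IsPGroup.iff_orderOf.mpr fun x => ?_
        have hd : orderOf x ∣ 3 := by
          rw [← Subgroup.orderOf_coe]
          obtain ⟨i, hi⟩ := Subgroup.mem_zpowers_iff.1 x.2
          refine orderOf_dvd_of_pow_eq_one ?_
          rw [← hi, ← zpow_natCast, ← zpow_mul, mul_comm, zpow_mul, zpow_natCast, hg, one_zpow]
        exact ((Nat.dvd_prime_pow Nat.prime_three).1 (by rwa [pow_one])).imp fun k hk => hk.2
      obtain ⟨Q', hQ'⟩ := hp.exists_le_sylow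
      haveI := (Nat.card_eq_one_iff_unique.1 hn).1
      rw [Subsingleton.elim Q Q']
      exact hQ' (Subgroup.mem_zpowers g)
  · have hdvd : Nat.card (Sylow 3 K) ∣ 4 := by
      have h1 := Q.card_eq_index_normalizer.symm ▸
        Subgroup.index_dvd_of_le (Subgroup.le_normalizer (H := (Q : Subgroup K)))
      have h2 := (Q : Subgroup K).card_mul_index
      rw [h3 Q] at h2
      refine h1.trans ?_
      rcases h with e | e <;> rw [e] at h2
      · exact ⟨2, by omega⟩
      · exact ⟨1, by omega⟩
    have hmod := card_sylow_modEq_one 3 K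
    have h4 : Nat.card (Sylow 3 K) = 4 := by
      have hle := Nat.le_of_dvd (by norm_num) hdvd
      have h0 : 0 < Nat.card (Sylow 3 K) := Nat.card_pos
      rw [Nat.ModEq] at hmod
      omega
    have h12 : Nat.card K = 12 := by
      refine h.resolve_left fun e => ?_
      have h1 := Subgroup.card_subgroup_dvd_card (Subgroup.normalizer ((Q : Subgroup K) : Set K))
      have h2 := (Subgroup.normalizer ((Q : Subgroup K) : Set K)).card_mul_index
      have h3' : (Subgroup.normalizer ((Q : Subgroup K) : Set K)).index = 4 :=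
        Q.card_eq_index_normalizer.symm.trans h4
      rw [h3', e] at h2
      omega
    have hc := H69.M11.card_orderOf_prime h3
    rw [h4] at hc
    obtain ⟨R, hR⟩ := Sylow.exists_subgroup_card_pow_prime 2 (G := K) (n := 2) (by rw [h12]; norm_num)
    refine ⟨2, R, Or.inr ⟨rfl, h12⟩, fun e => ?_, IsPGroup.of_card hR, fun g =>
      ⟨fun hg => orderOf_dvd_iff_pow_eq_one.1 (Subgroup.orderOf_dvd_natCard _ hg), fun hg => ?_⟩⟩
    · rw [e, Subgroup.card_bot] at hR; norm_num at hR
    · rw [hR] at hg
      cases nonempty_fintype K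
      let S3 : Finset K := Finset.univ.filter fun g => orderOf g = 3
      have hS3 : S3.card = 8 := by
        rw [← Fintype.card_subtype, ← Nat.card_eq_fintype_card]; exact hc
      let RF : Finset K := Finset.univ.filter fun g => g ∈ R
      have hRF : RF.card = 4 := by
        rw [← Fintype.card_subtype, ← Nat.card_eq_fintype_card]; exact hR
      have hd : Disjoint S3 RF := by
        rw [Finset.disjoint_left]
        intro y hy hy'
        simp only [S3, RF, Finset.mem_filter] at hy hy'
        have := Subgroup.orderOf_dvd_natCard R hy'.2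
        rw [hy.2, hR] at this
        norm_num at this
      have hu : S3 ∪ RF = Finset.univ := Finset.eq_univ_of_card _ (by
        rw [Finset.card_union_of_disjoint hd, hS3, hRF, ← Nat.card_eq_fintype_card, h12])
      have hmem : g ∈ S3 ∪ RF := hu ▸ Finset.mem_univ g
      simp only [S3, RF, Finset.mem_union, Finset.mem_filter, Finset.mem_univ, true_and] at hmem
      refine hmem.resolve_left fun ho => ?_
      have := orderOf_dvd_of_pow_eq_one hg
      rw [ho] at this
      norm_num at this

/-- the number of Sylow 11-subgroups is not 144 -/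
theorem card_sylow_eleven_ne_144 (hG : Cfsg.IsM12 G) : Nat.card (Sylow 11 G) ≠ 144 := by
  classical
  intro hn
  haveI := hG.1
  obtain ⟨P⟩ := (inferInstance : Nonempty (Sylow 11 G))
  have hP := card_eleven hG P
  have hN : Nat.card (Subgroup.normalizer ((P : Subgroup G) : Set G)) = 660 := by
    have := card_sylow_mul hG P; rw [hn] at this; omega
  set C := Subgroup.centralizer ((P : Subgroup G) : Set G) with hC
  set N := Subgroup.normalizer ((P : Subgroup G) : Set G) with hNdef
  have hle : (P : Subgroup G) ≤ C := le_centralizer_eleven hG P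
  set e := C.relIndex N
  have hmul : Nat.card C * e = 660 := hN ▸ relIndex_mul (P : Subgroup G)
  cases nonempty_fintype G
  have hed : e ∣ 11 - 1 := H86.Abelian.relIndex_dvd P hP
  have he1 : e ≠ 1 := fun h => by
    refine H69.M11.not_normalizer_le_centralizer (not_comm hG) (by rw [hG.2]; norm_num) P ?_
    exact Subgroup.relIndex_eq_one.1 h
  have he2 : e ≠ 2 := relIndex_ne_two hG P
  have he : e = 5 ∨ e = 10 := by
    have hmem : e ∈ Nat.divisors 10 := Nat.mem_divisors.2 ⟨hed, by norm_num⟩
    rw [show Nat.divisors 10 = {1, 2, 5, 10} by decide +kernel] at hmem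
    simp only [Finset.mem_insert, Finset.mem_singleton] at hmem
    omega
  -- the complement of `P` in its centralizer
  let P₀ : Sylow 11 C := P.subtype hle
  have hP₀ : Nat.card (P₀ : Subgroup C) = 11 :=
    (Nat.card_congr (Subgroup.subgroupOfEquivOfLe hle).toEquiv).trans hP
  have hcen : Subgroup.normalizer ((P₀ : Subgroup C) : Set C) ≤
      Subgroup.centralizer ((P₀ : Subgroup C) : Set C) := by
    intro c _ q hq
    exact Subtype.ext (c.2 (q : G) (Subgroup.mem_subgroupOf.1 hq))
  set K := (MonoidHom.transferSylow P₀ hcen).ker with hKdef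
  have hcomp := MonoidHom.ker_transferSylow_isComplement' P₀ hcen
  have hKmul : Nat.card K * 11 = Nat.card C := by rw [← hcomp.card_mul, hP₀]
  have hKc : Nat.card K = 6 ∨ Nat.card K = 12 := by
    rcases he with h | h <;> rw [h] at hmul <;> omega
  haveI hKn : K.Normal := MonoidHom.normal_ker _
  have hKidx : K.index = 11 := hcomp.symm.index_eq_card.trans hP₀
  obtain ⟨p, Y₁, hp, hY₁, hY₁p, hY₁m⟩ := exists_power_subgroup hKc
  haveI : Fact p.Prime := ⟨by rcases hp with rfl | ⟨rfl, -⟩ <;> norm_num⟩
  set q := Nat.card Y₁ with hq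
  let Y : Subgroup G := (Y₁.map K.subtype).map C.subtype
  have hYcard : Nat.card Y = q := by
    rw [Subgroup.card_map_of_injective (Subgroup.subtype_injective _),
      Subgroup.card_map_of_injective (Subgroup.subtype_injective _)]
  have hYp : IsPGroup p Y := (hY₁p.map K.subtype).map C.subtype
  obtain ⟨m, hm⟩ := hY₁p.exists_card_eq
  have hq11 : Nat.Coprime q 11 := by
    rw [hq, hm]
    refine Nat.Coprime.pow_left _ ?_
    rcases hp with rfl | ⟨rfl, -⟩ <;> norm_num
  have hYmem : ∀ g, g ∈ Y ↔ g ∈ C ∧ g ^ q = 1 := by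
    intro g
    constructor
    · rintro ⟨c, ⟨k, hk, rfl⟩, rfl⟩
      refine ⟨(k : C).2, ?_⟩
      have h1 := congrArg (fun z : K => ((z : C) : G)) ((hY₁m k).1 hk)
      simpa using h1
    · rintro ⟨hgC, hgq⟩
      have hgK : (⟨g, hgC⟩ : C) ∈ K := by
        rw [← QuotientGroup.eq_one_iff]
        refine orderOf_eq_one_iff.1 (Nat.eq_one_of_dvd_coprimes hq11 ?_ ?_)
        · refine orderOf_dvd_of_pow_eq_one ?_
          rw [← QuotientGroup.mk_pow, show (⟨g, hgC⟩ : C) ^ q = 1 from Subtype.ext hgq,
            QuotientGroup.mk_one]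
        · rw [← hKidx]
          exact orderOf_dvd_natCard _
      refine ⟨⟨g, hgC⟩, ⟨⟨⟨g, hgC⟩, hgK⟩, (hY₁m _).2 ?_, rfl⟩, rfl⟩
      exact Subtype.ext (Subtype.ext hgq)
  have hYne : Y ≠ ⊥ := fun h => hY₁ (by
    rw [← Subgroup.card_eq_one, ← hq, ← hYcard, h, Subgroup.card_bot])
  have hCn : ∀ n ∈ N, ∀ c ∈ C, n * c * n⁻¹ ∈ C := by
    intro n hn c hc r hr
    have hr' : n⁻¹ * r * n ∈ (P : Subgroup G) := by
      have := (Subgroup.mem_normalizer_iff.1 (inv_mem hn) r).1 hr
      rwa [inv_inv] at this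
    calc r * (n * c * n⁻¹) = n * ((n⁻¹ * r * n) * c) * n⁻¹ := by group
      _ = n * (c * (n⁻¹ * r * n)) * n⁻¹ := by rw [hc _ hr']
      _ = n * c * n⁻¹ * r := by group
  have hNY : N ≤ Subgroup.normalizer (Y : Set G) := by
    intro n hn
    refine Subgroup.mem_normalizer_iff.2 fun g => ?_
    rw [hYmem, hYmem, conj_pow, conj_eq_one_iff]
    refine and_congr_left' ⟨hCn n hn g, fun h => ?_⟩
    have := hCn n⁻¹ (inv_mem hn) _ h
    simpa [mul_assoc] using this
  -- another fixed Sylow subgroup
  have hfix := hYp.card_modEq_card_fixedPoints (Sylow 11 G)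
  have hPfix : P ∈ MulAction.fixedPoints Y (Sylow 11 G) := fun y =>
    Sylow.smul_eq_iff_mem_normalizer.2 (Subgroup.centralizer_le_normalizer _ ((hYmem _).1 y.2).1)
  obtain ⟨Q, hQ, hQP⟩ : ∃ Q ∈ MulAction.fixedPoints Y (Sylow 11 G), Q ≠ P := by
    by_contra h
    push Not at h
    have h1 : MulAction.fixedPoints Y (Sylow 11 G) = {P} :=
      Set.eq_singleton_iff_unique_mem.2 ⟨hPfix, h⟩
    rw [hn, h1, Nat.card_coe_set_eq, Set.ncard_singleton, Nat.ModEq] at hfix
    rcases hp with rfl | ⟨rfl, -⟩ <;> norm_num at hfix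
  haveI : Fintype (Sylow 11 G) := Fintype.ofFinite _
  obtain ⟨g, hg⟩ := MulAction.exists_smul_eq G P Q
  have hYQ : Y ≤ Subgroup.centralizer ((Q : Subgroup G) : Set G) := by
    intro y hy
    have hyN : g⁻¹ * y * g ∈ N := by
      have hyQ : y • Q = Q := hQ ⟨y, hy⟩
      refine Sylow.smul_eq_iff_mem_normalizer.1 ?_
      rw [mul_smul, mul_smul, hg, hyQ, ← hg, inv_smul_smul]
    have hyC : g⁻¹ * y * g ∈ C := by
      haveI hCN : (C.subgroupOf N).Normal :=
        ⟨fun c hc n => Subgroup.mem_subgroupOf.2 (hCn n n.2 _ (Subgroup.mem_subgroupOf.1 hc))⟩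
      have h2 : (QuotientGroup.mk ⟨_, hyN⟩ : N ⧸ C.subgroupOf N) = 1 := by
        have hd : Nat.Coprime q e := by
          rw [hq, hm]
          refine Nat.Coprime.pow_left _ ?_
          rcases hp with rfl | ⟨rfl, h12⟩
          · rcases he with h | h <;> rw [h] <;> norm_num
          · rcases he with h | h <;> rw [h] at hmul ⊢
            · norm_num
            · omega
        refine orderOf_eq_one_iff.1 (Nat.eq_one_of_dvd_coprimes hd ?_ (orderOf_dvd_natCard _))
        refine orderOf_dvd_of_pow_eq_one ?_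
        rw [← QuotientGroup.mk_pow, QuotientGroup.eq_one_iff, Subgroup.mem_subgroupOf]
        show (g⁻¹ * y * g) ^ q ∈ C
        have e1 : g⁻¹ * y * g = g⁻¹ * y * g⁻¹⁻¹ := by rw [inv_inv]
        rw [e1, conj_pow, ((hYmem y).1 hy).2]
        simp
      exact Subgroup.mem_subgroupOf.1 ((QuotientGroup.eq_one_iff _).1 h2)
    intro r hr
    have hr' : g⁻¹ * r * g ∈ (P : Subgroup G) := by
      have hr0 : r ∈ ((g • P : Sylow 11 G) : Subgroup G) := hg.symm ▸ hr
      rw [Sylow.coe_subgroup_smul, Subgroup.mem_pointwise_smul_iff_inv_smul_mem] at hr0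
      simpa [MulAut.smul_def] using hr0
    have h3 := hyC _ hr'
    calc r * y = g * ((g⁻¹ * r * g) * (g⁻¹ * y * g)) * g⁻¹ := by group
      _ = g * ((g⁻¹ * y * g) * (g⁻¹ * r * g)) * g⁻¹ := by rw [h3]
      _ = y * r := by group
  -- the normalizer of `Y`
  set M := Subgroup.normalizer (Y : Set G) with hM
  have hQM : (Q : Subgroup G) ≤ M := by
    intro r hr
    refine Subgroup.centralizer_le_normalizer _ ?_
    intro y hy
    exact (hYQ hy r hr).symm
  have hNM : N ≤ M := hNY
  have hPM : (P : Subgroup G) ≤ M := Subgroup.le_normalizer.trans hNM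
  have hMtop : M ≠ ⊤ := by
    intro h
    have hYn : Y.Normal := Subgroup.normalizer_eq_top_iff.1 h
    rcases hYn.eq_bot_or_eq_top with h' | h'
    · exact hYne h'
    · rw [h', Subgroup.card_top, hG.2, hq, hm] at hYcard
      have : 11 ∣ p ^ m := hYcard ▸ (by norm_num : 11 ∣ 95040)
      have h11 : 11 ∣ p := (Nat.Prime.dvd_of_dvd_pow (by norm_num) this)
      rcases hp with rfl | ⟨rfl, -⟩ <;> norm_num at h11
  let PM : Sylow 11 M := P.subtype hPM
  have hidxM : Nat.card (Sylow 11 M) * M.index = 144 := by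
    have h1 : Nat.card (Sylow 11 M) = (N.subgroupOf M).index := by
      rw [PM.card_eq_index_normalizer]
      congr 1
      exact ((Subgroup.subgroupOf_normalizer_eq hPM).symm :
        Subgroup.normalizer (((P : Subgroup G).subgroupOf M : Subgroup M) : Set M) = N.subgroupOf M)
    have h2 := Subgroup.relIndex_mul_index hNM
    have h3 : N.index = 144 := by rw [← hn]; exact P.card_eq_index_normalizer.symm
    rw [h1]
    exact h2.trans h3
  have hne1 : Nat.card (Sylow 11 M) ≠ 1 := by
    intro h1
    haveI := (Nat.card_eq_one_iff_unique.1 h1).1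
    apply hQP
    apply Sylow.ext
    have h2 : Q.subtype hQM = PM := Subsingleton.elim _ _
    have h3 := congrArg (fun S : Sylow 11 M => (S : Subgroup M).map M.subtype) h2
    simpa [PM, inf_eq_left.2 hQM, inf_eq_left.2 hPM] using h3
  have hmod := card_sylow_modEq_one 11 M
  have h12 := twelve_le_index hG hMtop
  have hM12 : M.index = 12 := by
    have hd : Nat.card (Sylow 11 M) ∈ Nat.divisors 144 :=
      Nat.mem_divisors.2 ⟨Dvd.intro _ hidxM, by norm_num⟩
    have hf : Nat.card (Sylow 11 M) ∈ (Nat.divisors 144).filter (fun n => n % 11 = 1) :=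
      Finset.mem_filter.2 ⟨hd, by rwa [Nat.ModEq] at hmod⟩
    rw [show (Nat.divisors 144).filter (fun n => n % 11 = 1) = {1, 12, 144} by decide +kernel] at hf
    simp only [Finset.mem_insert, Finset.mem_singleton] at hf
    rcases hf with h | h | h
    · exact absurd h hne1
    · rw [h] at hidxM; omega
    · rw [h] at hidxM; omega
  have h11 := (twelve_facts hG hM12 Subgroup.le_normalizer le_rfl hYne).1
  rw [hYcard] at h11
  exact absurd (Nat.eq_one_of_dvd_coprimes hq11 h11 dvd_rfl) (by norm_num)

/-- There are 1728 Sylow 11-subgroups. -/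
theorem card_sylow_eleven (hG : Cfsg.IsM12 G) : Nat.card (Sylow 11 G) = 1728 := by
  classical
  haveI := hG.1
  obtain ⟨P⟩ := (inferInstance : Nonempty (Sylow 11 G))
  have hP := card_eleven hG P
  have hmul := card_sylow_mul hG P
  set n := Nat.card (Sylow 11 G) with hn
  have hmod := card_sylow_modEq_one 11 G
  have hdvd : n ∣ 8640 := by
    have h1 : n ∣ (P : Subgroup G).index := (dvd_of_eq P.card_eq_index_normalizer).trans
      (Subgroup.index_dvd_of_le (Subgroup.le_normalizer (H := (P : Subgroup G))))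
    refine h1.trans (dvd_of_eq ?_)
    have h2 := card_mul_index hG (P : Subgroup G)
    rw [hP] at h2
    omega
  have hmem : n ∈ (Nat.divisors 8640).filter (fun n => n % 11 = 1) :=
    Finset.mem_filter.2 ⟨Nat.mem_divisors.2 ⟨hdvd, by norm_num⟩, by rwa [Nat.ModEq] at hmod⟩
  rw [show (Nat.divisors 8640).filter (fun n => n % 11 = 1) = {1, 12, 45, 144, 320, 540, 1728} by
    decide +kernel] at hmem
  simp only [Finset.mem_insert, Finset.mem_singleton] at hmem
  set C := Subgroup.centralizer ((P : Subgroup G) : Set G)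
  set N := Subgroup.normalizer ((P : Subgroup G) : Set G) with hN
  set e := C.relIndex N
  have hce : Nat.card C * e = Nat.card N := relIndex_mul (P : Subgroup G)
  cases nonempty_fintype G
  have hed : e ∣ 11 - 1 := H86.Abelian.relIndex_dvd P hP
  have he1 : e ≠ 1 := fun h =>
    H69.M11.not_normalizer_le_centralizer (not_comm hG) (by rw [hG.2]; norm_num) P
      (Subgroup.relIndex_eq_one.1 h)
  have he2 : e ≠ 2 := relIndex_ne_two hG P
  have he : e = 5 ∨ e = 10 := by
    have hm : e ∈ Nat.divisors 10 := Nat.mem_divisors.2 ⟨hed, by norm_num⟩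
    rw [show Nat.divisors 10 = {1, 2, 5, 10} by decide +kernel] at hm
    simp only [Finset.mem_insert, Finset.mem_singleton] at hm
    omega
  rcases hmem with h | h | h | h | h | h | h
  · exfalso
    rw [h, one_mul] at hmul
    have htop : N = ⊤ := Subgroup.eq_top_of_card_eq _ (by rw [hmul, hG.2])
    have hPn : (P : Subgroup G).Normal := Subgroup.normalizer_eq_top_iff.1 htop
    rcases hPn.eq_bot_or_eq_top with h' | h' <;> rw [h'] at hP
    · rw [Subgroup.card_bot] at hP; omega
    · rw [Subgroup.card_top, hG.2] at hP; omega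
  · exfalso
    have h12 : N.index = 12 := by rw [hN, ← h]; exact P.card_eq_index_normalizer.symm
    have hne : (P : Subgroup G) ≠ ⊥ := fun e => by rw [e, Subgroup.card_bot] at hP; omega
    have h2 := (twelve_facts hG h12 Subgroup.le_normalizer le_rfl hne).2
    rw [inf_eq_right.2 (Subgroup.centralizer_le_normalizer _)] at h2
    have h2' : Nat.card C ≤ 11 := h2
    rw [h] at hmul
    rcases he with he | he <;> rw [he] at hce <;> omega
  · exfalso; rw [h] at hmul; rcases he with he | he <;> rw [he] at hce <;> omega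
  · exact absurd h (card_sylow_eleven_ne_144 hG)
  · exfalso; rw [h] at hmul; rcases he with he | he <;> rw [he] at hce <;> omega
  · exfalso; rw [h] at hmul; rcases he with he | he <;> rw [he] at hce <;> omega
  · exact h

theorem card_normalizer_eleven (hG : Cfsg.IsM12 G) (P : Sylow 11 G) :
    Nat.card (Subgroup.normalizer ((P : Subgroup G) : Set G)) = 55 := by
  have := card_sylow_mul hG P
  rw [card_sylow_eleven hG] at this
  omega

/-- The Sylow 11-subgroups are self-centralizing. -/
theorem centralizer_eleven (hG : Cfsg.IsM12 G) (P : Sylow 11 G) :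
    Subgroup.centralizer ((P : Subgroup G) : Set G) = P := by
  haveI := hG.1
  have hle := le_centralizer_eleven hG P
  have h1 := relIndex_mul (P : Subgroup G)
  rw [card_normalizer_eleven hG P] at h1
  refine (Subgroup.eq_of_le_of_card_ge hle ?_).symm
  rw [card_eleven hG P]
  obtain ⟨k, hk⟩ := Subgroup.card_dvd_of_le hle
  rw [card_eleven hG P] at hk
  rw [hk, mul_assoc] at h1
  have hne : (Subgroup.centralizer ((P : Subgroup G) : Set G)).relIndex
      (Subgroup.normalizer ((P : Subgroup G) : Set G)) ≠ 1 := fun h =>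
    H69.M11.not_normalizer_le_centralizer (not_comm hG) (by rw [hG.2]; norm_num) P
      (Subgroup.relIndex_eq_one.1 h)
  have h5 : k ∣ 5 := Dvd.intro _ (Nat.eq_of_mul_eq_mul_left (by norm_num : 0 < 11)
    (h1.trans (show 55 = 11 * 5 by norm_num)))
  rcases (Nat.dvd_prime (by norm_num)).1 h5 with rfl | rfl
  · omega
  · exfalso
    apply hne
    omega

theorem relIndex_eleven (hG : Cfsg.IsM12 G) (P : Sylow 11 G) :
    (P : Subgroup G).relIndex (Subgroup.normalizer ((P : Subgroup G) : Set G)) = 5 := by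
  have h1 := relIndex_mul (P : Subgroup G)
  rw [centralizer_eleven hG P, card_normalizer_eleven hG P, card_eleven hG P] at h1
  omega

end Cfsg.Agent.H28.M12
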