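import Cfsg.Agent.H28.M12.Blocks
import Cfsg.Agent.Golay.Transport
import Cfsg.Agent.S0408
import Cfsg.Agent.S0425
import Cfsg.Agent.S0382
import Cfsg.Agent.S0383
import Cfsg.Agent.S0384

/-!
Simple groups of order 95040 with subgroups of index 12 are isomorphic; the dodecad stabiliser is one.
-/

set_option autoImplicit false

namespace Cfsg.Agent.H28.M12

open MulAction
open scoped Pointwise

theorem smul_image {α β : Type*} [DecidableEq α] [DecidableEq β] (e : α ≃ β) (σ : Equiv.Perm α)
    (B : Set (Finset α)) : (e.permCongr σ) • ((fun b => b.image e) '' B) =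
      (fun b => b.image e) '' (σ • B) := by
  have key : ∀ b : Finset α, (e.permCongr σ) • b.image e = (σ • b).image e := fun b => by
    show (b.image e).image (fun y => e.permCongr σ • y) = (b.image fun x => σ • x).image e
    rw [Finset.image_image, Finset.image_image]
    exact Finset.image_congr fun x _ => by simp
  show (fun c => e.permCongr σ • c) '' ((fun b => b.image e) '' B) =
    (fun b => b.image e) '' ((fun c => σ • c) '' B)
  rw [Set.image_image, Set.image_image]
  exact Set.image_congr fun b _ => key b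

/-- isomorphic set systems have isomorphic automorphism groups -/
theorem aut_iso {α β : Type*} [DecidableEq α] [DecidableEq β] {B : Set (Finset α)}
    {B' : Set (Finset β)} (h : Cfsg.SetSystemIso B B') :
    Nonempty (Cfsg.setSystemAut B ≃* Cfsg.setSystemAut B') := by
  obtain ⟨e, he⟩ := h
  have hmap : (Cfsg.setSystemAut B).map e.permCongrHom.toMonoidHom = Cfsg.setSystemAut B' := by
    ext τ
    rw [Subgroup.mem_map_equiv, mem_stabilizer_iff, mem_stabilizer_iff]
    obtain ⟨σ, rfl⟩ : ∃ σ, e.permCongrHom σ = τ := ⟨_, e.permCongrHom.apply_symm_apply τ⟩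
    rw [MulEquiv.symm_apply_apply, ← he]
    show _ ↔ e.permCongr σ • _ = _
    rw [smul_image]
    have hinj : Function.Injective fun b : Finset α => b.image e :=
      Finset.image_injective e.injective
    exact hinj.image_injective.eq_iff.symm
  exact ⟨(e.permCongrHom.subgroupMap _).trans (MulEquiv.subgroupCongr hmap)⟩

/-- a transitive faithful action on twelve points identifies the group -/
theorem exists_steiner_iso {G X : Type*} [Group G] [Finite G] [MulAction G X] [FaithfulSMul G X]
    [IsPretransitive G X] [Fintype X] [DecidableEq X] (hG : Cfsg.IsM12 G)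
    (hX : Fintype.card X = 12) : ∃ B : Set (Finset X), Cfsg.IsSteinerSystem 5 6 B ∧
      Nonempty (G ≃* Cfsg.setSystemAut B) := by
  obtain ⟨B, hB, hle⟩ := exists_steiner (G := G) hG hX
  refine ⟨B, hB, ?_⟩
  let f : G →* Cfsg.setSystemAut B := (toPermHom G X).codRestrict _ hle
  have hinj : Function.Injective f := fun a b e =>
    toPerm_injective (congrArg Subtype.val e)
  have hcard : Nat.card G = Nat.card (Cfsg.setSystemAut B) := by
    rw [hG.2, (S0425.result hX hB).1.2]
  exact ⟨MulEquiv.ofBijective f ((Nat.bijective_iff_injective_and_card _).mpr ⟨hinj, hcard⟩)⟩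

theorem faithful_of_index {K : Type*} [Group K] [Finite K] (hK : IsSimpleGroup K) (U : Subgroup K)
    (hU : U.index = 12) : FaithfulSMul K (K ⧸ U) := by
  refine ⟨fun {a b} hab => ?_⟩
  have hker : (toPermHom K (K ⧸ U)).ker = ⊥ := by
    haveI := hK
    rcases (MonoidHom.normal_ker (toPermHom K (K ⧸ U))).eq_bot_or_eq_top with h | h
    · exact h
    · exfalso
      have : U = ⊤ := by
        rw [eq_top_iff]
        intro k _
        have h1 := DFunLike.congr_fun (MonoidHom.mem_ker.mp (h ▸ Subgroup.mem_top k : k ∈ (toPermHom K (K ⧸ U)).ker))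
          (QuotientGroup.mk 1 : K ⧸ U)
        have h2 : (QuotientGroup.mk (k * 1) : K ⧸ U) = QuotientGroup.mk 1 := h1
        simpa [QuotientGroup.eq] using h2
      rw [this, Subgroup.index_top] at hU
      omega
  exact (MonoidHom.ker_eq_bot_iff _).mp hker (Equiv.ext hab)

/-- simple groups of order 95040 with subgroups of index 12 are isomorphic -/
theorem nonempty_mulEquiv_of_index {G H : Type*} [Group G] [Finite G] [Group H] [Finite H]
    (hG : Cfsg.IsM12 G) (hH : Cfsg.IsM12 H) {S : Subgroup G} (hS : S.index = 12)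
    {T : Subgroup H} (hT : T.index = 12) : Nonempty (G ≃* H) := by
  classical
  haveI := hG.1
  haveI := hH.1
  haveI := faithful_of_index hG.1 S hS
  haveI := faithful_of_index hH.1 T hT
  haveI := Fintype.ofFinite (G ⧸ S)
  haveI := Fintype.ofFinite (H ⧸ T)
  have hX : Fintype.card (G ⧸ S) = 12 := by rw [← Nat.card_eq_fintype_card]; exact hS
  have hY : Fintype.card (H ⧸ T) = 12 := by rw [← Nat.card_eq_fintype_card]; exact hT
  obtain ⟨B, hB, ⟨e₁⟩⟩ := exists_steiner_iso hG hX
  obtain ⟨B', hB', ⟨e₂⟩⟩ := exists_steiner_iso hH hY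
  obtain ⟨e⟩ := aut_iso (S0408.result hX hY hB hB')
  exact ⟨(e₁.trans e).trans e₂.symm⟩

/-- the dodecad stabiliser has a subgroup of index 12 -/
theorem exists_index_twelve {d : Finset Cfsg.GolayPt} (hd : d ∈ Cfsg.dodecads) :
    ∃ S : Subgroup (MulAction.stabilizer Cfsg.M24 d), S.index = 12 := by
  classical
  have hcard : d.card = 12 := hd.2
  obtain ⟨p, hp⟩ : d.Nonempty := Finset.card_pos.mp (by omega)
  let W := MulAction.stabilizer Cfsg.M24 d
  refine ⟨stabilizer W p, ?_⟩
  rw [index_stabilizer, show orbit W p = (d : Set Cfsg.GolayPt) from ?_, Set.ncard_coe_finset, hcard]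
  ext q
  constructor
  · rintro ⟨w, rfl⟩
    have hw : (w : Cfsg.M24) • d = d := w.2
    have := Finset.smul_mem_smul_finset (a := (w : Cfsg.M24)) hp
    rw [hw] at this
    exact this
  · intro hq
    obtain ⟨ex, hx⟩ : ∃ x : Fin 5 ↪ Cfsg.GolayPt, (∀ i, x i ∈ d) ∧ x 0 = p := by
      obtain ⟨T, hT, hTd, hT5⟩ := Finset.exists_subsuperset_card_eq
        (show {p} ⊆ d by simpa using hp) (n := 5) (by simp) (by omega)
      let e := (T.equivFinOfCardEq hT5).symm
      let p' : T := ⟨p, hT (Finset.mem_singleton_self p)⟩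
      refine ⟨((Equiv.swap 0 (e.symm p')).trans e).toEmbedding.trans
        (Function.Embedding.subtype _), fun i => hTd (((Equiv.swap 0 (e.symm p')).trans e) i).2, ?_⟩
      simp [p']
    obtain ⟨ey, hy⟩ : ∃ x : Fin 5 ↪ Cfsg.GolayPt, (∀ i, x i ∈ d) ∧ x 0 = q := by
      obtain ⟨T, hT, hTd, hT5⟩ := Finset.exists_subsuperset_card_eq
        (show {q} ⊆ d by simpa using hq) (n := 5) (by simp) (by omega)
      let e := (T.equivFinOfCardEq hT5).symm
      let q' : T := ⟨q, hT (Finset.mem_singleton_self q)⟩
      refine ⟨((Equiv.swap 0 (e.symm q')).trans e).toEmbedding.trans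
        (Function.Embedding.subtype _), fun i => hTd (((Equiv.swap 0 (e.symm q')).trans e) i).2, ?_⟩
      simp [q']
    obtain ⟨g, hg, -⟩ := S0384.result d hd ex ey hx.1 hy.1
    exact ⟨g, by rw [← hx.2, ← hy.2]; exact hg 0⟩

/-- the dodecad stabiliser is simple of order 95040 -/
theorem isM12_stabilizer {d : Finset Cfsg.GolayPt} (hd : d ∈ Cfsg.dodecads) :
    Cfsg.IsM12 (MulAction.stabilizer Cfsg.M24 d) :=
  ⟨S0383.result d hd, S0382.result d hd⟩

end Cfsg.Agent.H28.M12
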