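import Cfsg.Agent.H28.M12.Perm
import Cfsg.Agent.H69.M11.Count
import Cfsg.Agent.H29.Degree11

/-!
General facts on a simple group of order 95040: small indices, subgroups of index 12, Sylow counts.
-/

set_option autoImplicit false

namespace Cfsg.Agent.H28.M12

open MulAction Subgroup

local instance fact_eleven' : Fact (Nat.Prime 11) := ⟨by norm_num⟩

variable {G : Type*} [Group G] [Finite G]

theorem card_sylow_prime (hG : Cfsg.IsM12 G) {p : ℕ} [hp : Fact p.Prime] (hd : p ∣ 95040)
    (hd2 : ¬ p * p ∣ 95040) (P : Sylow p G) : Nat.card (P : Subgroup G) = p := by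
  obtain ⟨m, hm⟩ := P.2.exists_card_eq
  have h1 : p ∣ Nat.card (P : Subgroup G) := P.dvd_card_of_dvd_card (by rw [hG.2]; exact hd)
  have h2 : Nat.card (P : Subgroup G) ∣ 95040 := hG.2 ▸ Subgroup.card_subgroup_dvd_card _
  rw [hm] at h1 h2 ⊢
  match m, h1, h2 with
  | 0, h1, _ => exact absurd (Nat.dvd_one.1 (by simpa using h1)) hp.out.one_lt.ne'
  | 1, _, _ => rw [pow_one]
  | m + 2, _, h2 =>
    exact absurd ((Dvd.intro_left (p ^ m) (by rw [pow_add, pow_two])).trans h2) hd2

theorem card_eleven (hG : Cfsg.IsM12 G) (P : Sylow 11 G) : Nat.card (P : Subgroup G) = 11 :=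
  card_sylow_prime hG (by norm_num) (by norm_num) P

theorem card_sylow_mul (hG : Cfsg.IsM12 G) {p : ℕ} [Fact p.Prime] (P : Sylow p G) :
    Nat.card (Sylow p G) * Nat.card (Subgroup.normalizer ((P : Subgroup G) : Set G)) = 95040 := by
  rw [P.card_eq_index_normalizer]
  exact (Subgroup.index_mul_card _).trans hG.2

theorem card_mul_index (hG : Cfsg.IsM12 G) (S : Subgroup G) : Nat.card S * S.index = 95040 := by
  rw [Subgroup.card_mul_index, hG.2]

/-- the action on the cosets of a proper subgroup is faithful -/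
theorem faithful_coset (hG : Cfsg.IsM12 G) {S : Subgroup G} (hS : S ≠ ⊤) :
    FaithfulSMul G (G ⧸ S) := by
  haveI := hG.1
  refine ⟨fun {a b} hab => ?_⟩
  have hker : (toPermHom G (G ⧸ S)).ker = ⊥ := by
    rcases (MonoidHom.normal_ker (toPermHom G (G ⧸ S))).eq_bot_or_eq_top with h | h
    · exact h
    · refine absurd (eq_top_iff.2 fun k _ => ?_) hS
      have hk : k ∈ (toPermHom G (G ⧸ S)).ker := h ▸ Subgroup.mem_top k
      have h1 : (QuotientGroup.mk (k * 1) : G ⧸ S) = QuotientGroup.mk 1 :=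
        DFunLike.congr_fun (MonoidHom.mem_ker.mp hk) (QuotientGroup.mk 1 : G ⧸ S)
      simpa [QuotientGroup.eq] using h1
  exact (MonoidHom.ker_eq_bot_iff _).mp hker (Equiv.ext hab)

theorem not_solvable (hG : Cfsg.IsM12 G) {H : Type*} [Group H] (f : G →* H)
    (hf : Function.Injective f) : ¬ Group.IsSolvable f.range := by
  intro h
  haveI := hG.1
  haveI := h
  haveI : Group.IsSolvable G :=
    solvable_of_solvable_injective (f := f.rangeRestrict) (fun a b e => hf (congrArg Subtype.val e))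
  exact not_comm hG ⟨⟨fun a b => IsSimpleGroup.comm_iff_isSolvable.mpr inferInstance a b⟩⟩

/-- no proper subgroup has index less than 12 -/
theorem twelve_le_index (hG : Cfsg.IsM12 G) {S : Subgroup G} (hS : S ≠ ⊤) : 12 ≤ S.index := by
  classical
  by_contra hlt
  haveI := faithful_coset hG hS
  haveI := Fintype.ofFinite (G ⧸ S)
  have hdiv : Nat.card G ∣ Nat.card (Equiv.Perm (G ⧸ S)) :=
    Subgroup.card_dvd_of_injective (toPermHom G (G ⧸ S)) toPerm_injective
  rw [hG.2, Nat.card_eq_fintype_card, Fintype.card_perm, ← Nat.card_eq_fintype_card,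
    ← Subgroup.index] at hdiv
  have h11 : S.index = 11 := by
    have hd : 11 ∣ Nat.factorial S.index := (by norm_num : 11 ∣ 95040).trans hdiv
    have := (Nat.Prime.dvd_factorial (by norm_num : Nat.Prime 11)).1 hd
    omega
  have hX : Fintype.card (G ⧸ S) = 11 := by rw [← Nat.card_eq_fintype_card]; exact h11
  let f := toPermHom G (G ⧸ S)
  have hf : Function.Injective f := toPerm_injective
  let H := f.range
  haveI : IsPretransitive H (G ⧸ S) := ⟨fun x y => by
    obtain ⟨g, hg⟩ := exists_smul_eq G x y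
    exact ⟨⟨f g, g, rfl⟩, hg⟩⟩
  have hH : Nat.card H = 95040 := by
    rw [← Nat.card_congr (MonoidHom.ofInjective hf).toEquiv, hG.2]
  have hA : ¬ alternatingGroup (G ⧸ S) ≤ H := fun h => by
    haveI : Nontrivial (G ⧸ S) := Fintype.one_lt_card_iff_nontrivial.mp (by omega)
    have h1 := Subgroup.card_le_of_le h
    rw [Nat.card_eq_fintype_card (α := alternatingGroup (G ⧸ S)), card_alternatingGroup, hX, hH] at h1
    norm_num [Nat.factorial] at h1
  rcases S0679.result hX H (not_solvable hG f hf) hA with ⟨h4, hsharp⟩ | ⟨⟨e⟩⟩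
  · haveI := h4
    have h1 := H29.card_of_sharp (G := H) (X := G ⧸ S) (n := 4) (by omega) hsharp
    rw [hX, hH] at h1
    norm_num [Nat.descFactorial] at h1
  · have h1 := Linear.card_PSL_two_mul (F := ZMod 11)
    rw [← Nat.card_congr e.toEquiv, hH, ZMod.card] at h1
    norm_num at h1

theorem twelve_aux {X : Type*} [MulAction G X] [FaithfulSMul G X] [IsPretransitive G X]
    [Fintype X] [DecidableEq X] (hG : Cfsg.IsM12 G) (hX : Fintype.card X = 12) (a : X)
    {Y : Subgroup G} (hY : Y ≤ stabilizer G a)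
    (hn : stabilizer G a ≤ Subgroup.normalizer (Y : Set G)) (hne : Y ≠ ⊥) :
    11 ∣ Nat.card Y ∧
      Nat.card ↥(stabilizer G a ⊓ Subgroup.centralizer (Y : Set G)) ≤ 11 := by
  haveI := pretransitive_stab hG hX a
  have hT : Nat.card ↥(SubMulAction.ofStabilizer G a) = 11 := by
    rw [SubMulAction.nat_card_ofStabilizer_eq, Nat.card_eq_fintype_card, hX]
  haveI : IsPreprimitive (stabilizer G a) ↥(SubMulAction.ofStabilizer G a) :=
    IsPreprimitive.of_prime_card (by rw [hT]; norm_num)
  let Y' : Subgroup (stabilizer G a) := Y.subgroupOf (stabilizer G a)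
  haveI : Y'.Normal := normal_subgroupOf_iff_le_normalizer (hY) |>.2 (hn)
  have hfix : fixedPoints Y' ↥(SubMulAction.ofStabilizer G a) ≠ Set.univ := by
    intro hfix
    refine hne ((Subgroup.eq_bot_iff_forall _).2 fun y hy => ?_)
    refine FaithfulSMul.eq_of_smul_eq_smul (α := X) fun x => ?_
    rw [one_smul]
    by_cases hx : x = a
    · rw [hx]; exact (hY hy : y ∈ stabilizer G a)
    · exact congrArg Subtype.val (Set.eq_univ_iff_forall.1 hfix (⟨x, hx⟩ : ↥(SubMulAction.ofStabilizer G a))
        ⟨⟨y, hY hy⟩, Subgroup.mem_subgroupOf.2 hy⟩)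
  haveI : IsPretransitive Y' ↥(SubMulAction.ofStabilizer G a) := IsQuasiPreprimitive.isPretransitive_of_normal hfix
  obtain ⟨b⟩ : Nonempty ↥(SubMulAction.ofStabilizer G a) := (Nat.card_pos_iff.1 (by omega : 0 < Nat.card ↥(SubMulAction.ofStabilizer G a))).1
  refine ⟨?_, ?_⟩
  · have h := Subgroup.index_dvd_card (stabilizer Y' b)
    rw [index_stabilizer_of_transitive, hT,
      Nat.card_congr (Subgroup.subgroupOfEquivOfLe (hY)).toEquiv] at h
    exact h
  · let f : ↥(stabilizer G a ⊓ Subgroup.centralizer (Y : Set G)) → ↥(SubMulAction.ofStabilizer G a) := fun c =>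
      (⟨c.1, c.2.1⟩ : stabilizer G a) • b
    refine hT ▸ Nat.card_le_card_of_injective f fun c c' e => ?_
    refine Subtype.ext (FaithfulSMul.eq_of_smul_eq_smul (α := X) fun x => ?_)
    by_cases hx : x = a
    · rw [hx]
      exact (c.2.1 : c.1 ∈ stabilizer G a).trans
        (c'.2.1 : c'.1 ∈ stabilizer G a).symm
    · obtain ⟨y, hy⟩ := exists_smul_eq Y' b (⟨x, hx⟩ : ↥(SubMulAction.ofStabilizer G a))
      have hyY : ((y : stabilizer G a) : G) ∈ Y := Subgroup.mem_subgroupOf.1 y.2
      have hxe : ((y : stabilizer G a) : G) • (b : X) = x := congrArg Subtype.val hy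
      have hee : c.1 • (b : X) = c'.1 • (b : X) := congrArg Subtype.val e
      rw [← hxe, smul_smul, smul_smul, ← Subgroup.mem_centralizer_iff.1 c.2.2 _ hyY,
        ← Subgroup.mem_centralizer_iff.1 c'.2.2 _ hyY, ← smul_smul, ← smul_smul, hee]

/-- in a subgroup of index 12 a nontrivial normalised subgroup has order divisible by 11, and
what centralizes a normalised subgroup is small -/
theorem twelve_facts (hG : Cfsg.IsM12 G) {S Y : Subgroup G} (hS : S.index = 12) (hY : Y ≤ S)
    (hn : S ≤ Subgroup.normalizer (Y : Set G)) (hne : Y ≠ ⊥) :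
    11 ∣ Nat.card Y ∧ Nat.card ↥(S ⊓ Subgroup.centralizer (Y : Set G)) ≤ 11 := by
  classical
  have hStop : S ≠ ⊤ := fun e => by rw [e, Subgroup.index_top] at hS; omega
  haveI := faithful_coset hG hStop
  haveI := Fintype.ofFinite (G ⧸ S)
  have hX : Fintype.card (G ⧸ S) = 12 := by rw [← Nat.card_eq_fintype_card]; exact hS
  have hst : stabilizer G (QuotientGroup.mk 1 : G ⧸ S) = S := MulAction.stabilizer_quotient S
  have h := twelve_aux (X := G ⧸ S) hG hX _ (hst.symm ▸ hY) (hst.symm ▸ hn) hne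
  rwa [hst] at h

end Cfsg.Agent.H28.M12
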